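import Groth.Agent.NonAb.SchTorsor
import Groth.Prelude.Def_ChGrp
import Groth.Prelude.Def_AlgGrp

/-!
# Fibre products of torsors along a fibre product of groups
-/

set_option autoImplicit false
set_option linter.all false
set_option backward.isDefEq.respectTransparency.types false

universe u

open CategoryTheory CategoryTheory.Limits AlgebraicGeometry MonoidalCategory CartesianMonoidalCategory MonObj

namespace Groth.Agent
namespace NoriFGS27

open NonAbLib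

variable {S : Scheme.{u}} {G G₁ G₂ Q T T₁ T₂ : Over S} [GrpObj G] [GrpObj G₁] [GrpObj G₂] [GrpObj Q]

theorem isPseudoTorsor_of_existsUnique {Z : Over S} (a : AlgGrp.Action Q Z)
    (h : ∀ (W : Over S) (x y : W ⟶ Z), ∃! g : W ⟶ Q, actPt a g x = y) : NonAbH1.IsPseudoTorsorSch a := by
  obtain ⟨g, hg, -⟩ := h (Z ⊗ Z) (snd Z Z) (fst Z Z)
  refine ⟨lift g (snd Z Z), ?_, ?_⟩
  · apply CartesianMonoidalCategory.hom_ext
    · rw [Category.assoc, lift_fst, Category.id_comp]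
      refine (h (Q ⊗ Z) (snd Q Z) a.act).unique ?_ ?_
      · have e := congrArg (lift a.act (snd Q Z) ≫ ·) hg
        simp only [comp_actPt, lift_snd, lift_fst] at e
        exact e
      · show lift (fst Q Z) (snd Q Z) ≫ a.act = a.act
        rw [lift_fst_snd, Category.id_comp]
    · simp
  · apply CartesianMonoidalCategory.hom_ext
    · rw [Category.assoc, lift_fst, Category.id_comp]; exact hg
    · simp

theorem actPt_comp {φ : G₁ ⟶ G} [IsMonHom φ] {b₁ : AlgGrp.Action G₁ T₁} {b : AlgGrp.Action G T} {f : T₁ ⟶ T}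
    (hf : AlgGrp.Action.IsEquivariant b₁ (b.restrict φ) f) {W : Over S} (g : W ⟶ G₁) (x : W ⟶ T₁) :
    actPt b₁ g x ≫ f = actPt b (g ≫ φ) (x ≫ f) := by
  unfold actPt
  rw [Category.assoc]
  unfold AlgGrp.Action.IsEquivariant at hf
  rw [hf, lift_whiskerLeft_assoc]
  show lift g (x ≫ f) ≫ (φ ▷ T) ≫ b.act = _
  rw [lift_whiskerRight_assoc]

/-- The fibre product of two torsors is a pseudo-torsor under the fibre product of the groups. -/
theorem exists_action_pullback (φ₁ : G₁ ⟶ G) (φ₂ : G₂ ⟶ G) [IsMonHom φ₁] [IsMonHom φ₂]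
    (π₁ : Q ⟶ G₁) (π₂ : Q ⟶ G₂) [IsMonHom π₁] [IsMonHom π₂] (hQ : IsPullback π₁ π₂ φ₁ φ₂)
    {b : AlgGrp.Action G T} {b₁ : AlgGrp.Action G₁ T₁} {b₂ : AlgGrp.Action G₂ T₂}
    (hT : NonAbH1.IsPseudoTorsorSch b) (hT₁ : NonAbH1.IsPseudoTorsorSch b₁) (hT₂ : NonAbH1.IsPseudoTorsorSch b₂)
    (f₁ : T₁ ⟶ T) (f₂ : T₂ ⟶ T) (hf₁ : AlgGrp.Action.IsEquivariant b₁ (b.restrict φ₁) f₁)
    (hf₂ : AlgGrp.Action.IsEquivariant b₂ (b.restrict φ₂) f₂) :
    ∃ c : AlgGrp.Action Q (pullback f₁ f₂),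
      AlgGrp.Action.IsEquivariant c (b₁.restrict π₁) (pullback.fst f₁ f₂) ∧
      AlgGrp.Action.IsEquivariant c (b₂.restrict π₂) (pullback.snd f₁ f₂) ∧
      NonAbH1.IsPseudoTorsorSch c := by
  let Z := pullback f₁ f₂
  let p₁ : Z ⟶ T₁ := pullback.fst f₁ f₂
  let p₂ : Z ⟶ T₂ := pullback.snd f₁ f₂
  let A₁ : Q ⊗ Z ⟶ T₁ := actPt b₁ (fst Q Z ≫ π₁) (snd Q Z ≫ p₁)
  let A₂ : Q ⊗ Z ⟶ T₂ := actPt b₂ (fst Q Z ≫ π₂) (snd Q Z ≫ p₂)
  have hA : A₁ ≫ f₁ = A₂ ≫ f₂ := by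
    rw [actPt_comp hf₁, actPt_comp hf₂, Category.assoc, Category.assoc, hQ.w, Category.assoc, Category.assoc,
      pullback.condition]
  let act : Q ⊗ Z ⟶ Z := pullback.lift A₁ A₂ hA
  have hact₁ : ∀ {W : Over S} (g : W ⟶ Q) (x : W ⟶ Z),
      (lift g x ≫ act) ≫ p₁ = actPt b₁ (g ≫ π₁) (x ≫ p₁) := fun g x => by
    rw [Category.assoc, pullback.lift_fst, comp_actPt, lift_fst_assoc, lift_snd_assoc]
  have hact₂ : ∀ {W : Over S} (g : W ⟶ Q) (x : W ⟶ Z),
      (lift g x ≫ act) ≫ p₂ = actPt b₂ (g ≫ π₂) (x ≫ p₂) := fun g x => by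
    rw [Category.assoc, pullback.lift_snd, comp_actPt, lift_fst_assoc, lift_snd_assoc]
  let c : AlgGrp.Action Q Z :=
    { act := act
      one_act := by
        apply AlgGrp.Action.hom_ext_lift₂
        intro W u x
        rw [lift_whiskerRight_assoc, lift_leftUnitor_hom]
        have hu : u ≫ η[Q] = (1 : W ⟶ Q) := by rw [Hom.one_def, toUnit_unique u (toUnit W)]
        rw [hu]
        apply pullback.hom_ext
        · rw [hact₁, MonObj.one_comp, actPt_one]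
        · rw [hact₂, MonObj.one_comp, actPt_one]
      mul_act := by
        apply AlgGrp.Action.hom_ext_lift₃
        intro W g h x
        rw [lift_whiskerRight_assoc, lift_lift_associator_hom_assoc, lift_whiskerLeft_assoc, ← Hom.mul_def]
        apply pullback.hom_ext
        · rw [hact₁, hact₁, hact₁, MonObj.mul_comp, actPt_mul]
        · rw [hact₂, hact₂, hact₂, MonObj.mul_comp, actPt_mul] }
  refine ⟨c, ?_, ?_, isPseudoTorsor_of_existsUnique c fun W x y => ?_⟩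
  · show act ≫ p₁ = (Q ◁ p₁) ≫ (π₁ ▷ T₁) ≫ b₁.act
    apply AlgGrp.Action.hom_ext_lift₂
    intro W g x
    rw [← Category.assoc, hact₁, lift_whiskerLeft_assoc, lift_whiskerRight_assoc]
    rfl
  · show act ≫ p₂ = (Q ◁ p₂) ≫ (π₂ ▷ T₂) ≫ b₂.act
    apply AlgGrp.Action.hom_ext_lift₂
    intro W g x
    rw [← Category.assoc, hact₂, lift_whiskerLeft_assoc, lift_whiskerRight_assoc]
    rfl
  · obtain ⟨g₁, hg₁, hu₁⟩ := existsUnique_actPt hT₁ (x ≫ p₁) (y ≫ p₁)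
    obtain ⟨g₂, hg₂, hu₂⟩ := existsUnique_actPt hT₂ (x ≫ p₂) (y ≫ p₂)
    have h : g₁ ≫ φ₁ = g₂ ≫ φ₂ := by
      refine (existsUnique_actPt hT ((x ≫ p₁) ≫ f₁) ((y ≫ p₁) ≫ f₁)).unique ?_ ?_
      · rw [← actPt_comp hf₁, hg₁]
      · rw [Category.assoc, Category.assoc, pullback.condition, ← Category.assoc, ← Category.assoc,
          ← actPt_comp hf₂, hg₂]
    refine ⟨hQ.lift g₁ g₂ h, ?_, fun g hg => ?_⟩
    · show lift (hQ.lift g₁ g₂ h) x ≫ act = y
      apply pullback.hom_ext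
      · rw [hact₁, hQ.lift_fst, hg₁]
      · rw [hact₂, hQ.lift_snd, hg₂]
    · have hg' : lift g x ≫ act = y := hg
      apply hQ.hom_ext
      · rw [hQ.lift_fst]
        exact hu₁ _ (by show actPt b₁ (g ≫ π₁) (x ≫ p₁) = y ≫ p₁; rw [← hact₁, hg'])
      · rw [hQ.lift_snd]
        exact hu₂ _ (by show actPt b₂ (g ≫ π₂) (x ≫ p₂) = y ≫ p₂; rw [← hact₂, hg'])

end NoriFGS27
end Groth.Agent
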