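import Groth.Agent.NoriFGS27.Criteria
import Groth.Agent.FlatMor12.TorsorPush
import Groth.Agent.Et18.Descent
import Mathlib.AlgebraicGeometry.Morphisms.Finite

/-!
# Nori-reduced torsors are those whose classifying homomorphism is schematically dominant
-/

set_option autoImplicit false
set_option linter.all false
set_option backward.isDefEq.respectTransparency.types false
set_option maxHeartbeats 1000000

universe u

open CategoryTheory CategoryTheory.Limits AlgebraicGeometry MonoidalCategory CartesianMonoidalCategory MonObj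

namespace Groth.Agent
namespace NoriFGS27

open NonAbLib

section General

open Groth.Agent.FlatMor12.TorsorPush

variable {S : Scheme.{u}} {G₁ G₀ G P T₀ T : Over S} [GrpObj G₁] [GrpObj G₀] [GrpObj G]

/-- The comparison map from a push forward along the first of two composable homomorphisms. -/
theorem exists_comparison {a : AlgGrp.Action G₁ P} {b₀ : AlgGrp.Action G₀ T₀} {b : AlgGrp.Action G T}
    (ha : NonAbH1.IsTorsorFor Scheme.fpqcPrecoverage a) (hb₀ : NonAbH1.IsPseudoTorsorSch b₀)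
    (hb : NonAbH1.IsPseudoTorsorSch b)
    (u : G₁ ⟶ G₀) (i : G₀ ⟶ G) [IsMonHom i] [Mono i] (f₀ : P ⟶ T₀) (F : P ⟶ T)
    (hf₀ : ∀ (W : Over S) (g : W ⟶ G₁) (w : W ⟶ P), actPt a g w ≫ f₀ = actPt b₀ (g ≫ u) (w ≫ f₀))
    (hF : ∀ (W : Over S) (g : W ⟶ G₁) (w : W ⟶ P), actPt a g w ≫ F = actPt b ((g ≫ u) ≫ i) (w ≫ F)) :
    ∃ j₀ : T₀ ⟶ T, f₀ ≫ j₀ = F ∧ Mono j₀ ∧
      ∀ (W : Over S) (g : W ⟶ G₀) (v : W ⟶ T₀), actPt b₀ g v ≫ j₀ = actPt b (g ≫ i) (v ≫ j₀) := by
  obtain ⟨hps, R, hR, hsec⟩ := ha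
  obtain ⟨I, Y, fY, rfl⟩ := R.exists_eq_ofArrows
  choose s hs using fun i => hsec (fY i) ⟨i⟩
  let s' : ∀ i, Over.mk (fY i) ⟶ P := fun i => Over.homMk (s i) (hs i)
  let Φ : ∀ {W : Over S} (l : I), (W ⟶ Over.mk (fY l)) → (W ⟶ T₀) → (W ⟶ T) := fun {W} l x v =>
    actPt b (dv hb₀ ((x ≫ s' l) ≫ f₀) v ≫ i) ((x ≫ s' l) ≫ F)
  obtain ⟨j₀, hj₀⟩ := exists_glue hR (Y := T₀) (Z := T) Φ
    (fun {W W'} κ l x v => by
      show κ ≫ actPt b _ _ = actPt b _ _
      rw [comp_actPt, ← Category.assoc κ, comp_dv]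
      simp only [Category.assoc])
    (fun {W} l l' x x' v => by
      show actPt b _ _ = actPt b _ _
      have hd : actPt a (dv hps (x ≫ s' l) (x' ≫ s' l')) (x ≫ s' l) = x' ≫ s' l' := actPt_dv hps _ _
      have e0 : dv hb₀ ((x ≫ s' l) ≫ f₀) ((x' ≫ s' l') ≫ f₀) = dv hps (x ≫ s' l) (x' ≫ s' l') ≫ u :=
        dv_unique hb₀ (by rw [← hf₀, hd])
      have e1 : (x' ≫ s' l') ≫ F =
          actPt b ((dv hps (x ≫ s' l) (x' ≫ s' l') ≫ u) ≫ i) ((x ≫ s' l) ≫ F) := by rw [← hF, hd]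
      rw [dv_trans hb₀ ((x ≫ s' l) ≫ f₀) ((x' ≫ s' l') ≫ f₀) v, MonObj.mul_comp, actPt_mul, e0, e1])
  have key : ∀ (W : Over S) (l : I) (x : W ⟶ Over.mk (fY l)) (v : W ⟶ T₀),
      v ≫ j₀ = actPt b (dv hb₀ ((x ≫ s' l) ≫ f₀) v ≫ i) ((x ≫ s' l) ≫ F) := fun W l x v => hj₀ W l x v
  have equiv : ∀ (W : Over S) (g : W ⟶ G₀) (v : W ⟶ T₀), actPt b₀ g v ≫ j₀ = actPt b (g ≫ i) (v ≫ j₀) := by
    intro W g v
    refine ext_local hR fun W' l x y => ?_
    rw [← Category.assoc, comp_actPt, key W' l x, dv_actPt, MonObj.mul_comp, actPt_mul, ← key W' l x,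
      comp_actPt]
    simp only [Category.assoc]
  refine ⟨j₀, ?_, ⟨fun {Z} v v' e => ?_⟩, equiv⟩
  · refine ext_local hR fun W l x y => ?_
    rw [← Category.assoc, key W l x]
    have hd : actPt a (dv hps (x ≫ s' l) y) (x ≫ s' l) = y := actPt_dv hps _ _
    have e0 : dv hb₀ ((x ≫ s' l) ≫ f₀) (y ≫ f₀) = dv hps (x ≫ s' l) y ≫ u :=
      dv_unique hb₀ (by rw [← hf₀, hd])
    rw [e0, ← hF, hd]
  · obtain ⟨g, hg, -⟩ := existsUnique_actPt hb₀ v v'
    have h1 : actPt b (g ≫ i) (v ≫ j₀) = v ≫ j₀ := by rw [← equiv, hg, e]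
    have h2 : g ≫ i = 1 := (existsUnique_actPt hb (v ≫ j₀) (v ≫ j₀)).unique h1 (actPt_one b _)
    have h3 : g = 1 := by rw [← cancel_mono i, h2, MonObj.one_comp]
    rw [h3, actPt_one] at hg
    exact hg

end General

variable {k : Type u} [Field k] {X : Scheme.{u}} [X.Over (Spec (CommRingCat.of k))]
  {x : Spec (CommRingCat.of k) ⟶ X} {πN : Over (Spec (CommRingCat.of k))} [GrpObj πN] {P : Over X}
  {p : Spec (CommRingCat.of k) ⟶ P.left}

local notation "sX" => (X ↘ Spec (CommRingCat.of k))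
local notation "Kf" => Scheme.fpqcPrecoverage

theorem isFinite_torsor_hom {G : Over (Spec (CommRingCat.of k))} [GrpObj G] [IsFinite G.hom] {T : Over X}
    {b : AlgGrp.Action (Red.bc sX G) T} (hb : NonAbH1.IsTorsorFor Kf b) : IsFinite T.hom := by
  haveI : IsFinite (Red.bc sX G).hom := MorphismProperty.pullback_snd (P := @IsFinite) G.hom sX inferInstance
  exact property_hom @IsFinite Groth.Agent.Et18.descends_isFinite hb inferInstance

/-- The classifying homomorphism of a Nori-reduced torsor is schematically dominant. -/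
theorem ker_eq_bot_of_reduced (hx : x ≫ sX = 𝟙 _) {a : AlgGrp.Action (Red.bc sX πN) P}
    (hP : NoriFGS.IsFGS x πN a p)
    {G : Over (Spec (CommRingCat.of k))} [GrpObj G] [IsFinite G.hom] {T : Over X}
    {b : AlgGrp.Action (Red.bc sX G) T} {t : Spec (CommRingCat.of k) ⟶ T.left}
    (hb : NonAbH1.IsTorsorFor Kf b) (ht : t ≫ T.hom = x) {ψ : πN ⟶ G} [IsMonHom ψ] {F : P ⟶ T}
    (hF : NoriFGS.IsPtTorsorHom a p b t ψ F) (hred : NoriFGS.IsNoriReduced Kf b) : ψ.left.ker = ⊥ := by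
  obtain ⟨K, _, _, iK, _, _, φ, _, hfac, hker, -, T₀, b₀, f₀, hb₀, ht₀, hf₀, -⟩ := exists_reduced_quotient hx hP ψ
  haveI : Mono iK := Over.mono_of_mono_left iK
  haveI : Mono ((Over.pullback sX).map iK) := inferInstance
  obtain ⟨j₀, hfj, hmono, hequiv⟩ := exists_comparison hP.2.1 hb₀.1 hb.1 ((Over.pullback sX).map φ)
    ((Over.pullback sX).map iK) f₀ F
    (fun W g w => actPt_comp hf₀.1 g w)
    (fun W g w => by rw [actPt_comp hF.1, Category.assoc, ← Functor.map_comp, hfac])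
  haveI := isFinite_torsor_hom hb
  haveI := isFinite_torsor_hom hb₀
  haveI := hmono
  haveI : IsFinite (j₀.left ≫ T.hom) := by rw [Over.w j₀]; infer_instance
  haveI : IsFinite j₀.left := IsFinite.of_comp j₀.left T.hom
  haveI : Mono j₀.left := inferInstance
  haveI : IsClosedImmersion j₀.left := (IsClosedImmersion.iff_isFinite_and_mono _).2 ⟨inferInstance, inferInstance⟩
  haveI : IsIso j₀ := hred K iK T₀ j₀ b₀ hb₀
    (isEquivariant_of_points ((Over.pullback sX).map iK) b₀ b j₀ hequiv)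
  -- the inclusion `iK` is an isomorphism
  have htj : (p ≫ f₀.left) ≫ j₀.left = t := by rw [Category.assoc, ← Over.comp_left, hfj, hF.2]
  let v : toX x G ⟶ T₀ := actPt b (pt x hx (𝟙 G)) (tU x t ht G) ≫ inv j₀
  obtain ⟨g₀, hg₀, -⟩ := existsUnique_actPt hb₀.1 (tU x (p ≫ f₀.left) ht₀ G) v
  have h0 : tU x (p ≫ f₀.left) ht₀ G ≫ j₀ = tU x t ht G := by
    apply Over.OverMorphism.ext
    show (G.hom ≫ p ≫ f₀.left) ≫ j₀.left = G.hom ≫ t
    rw [Category.assoc, htj]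
  have h1 : actPt b (g₀ ≫ (Over.pullback sX).map iK) (tU x t ht G) = actPt b (pt x hx (𝟙 G)) (tU x t ht G) := by
    rw [← h0, ← hequiv, hg₀, Category.assoc, IsIso.inv_hom_id, Category.comp_id, h0]
  have h2 : g₀ ≫ (Over.pullback sX).map iK = pt x hx (𝟙 G) :=
    (existsUnique_actPt hb.1 (tU x t ht G) _).unique h1 rfl
  rw [← Equiv.apply_symm_apply (he (toX x G) K) g₀, he_map, pt, Category.comp_id] at h2
  have h3 := (he (toX x G) G).injective h2
  haveI : IsSplitEpi iK := ⟨⟨⟨(eU x hx G).inv ≫ (he (toX x G) K).symm g₀, by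
    rw [Category.assoc, h3, Iso.inv_hom_id]⟩⟩⟩
  haveI : IsIso iK := isIso_of_mono_of_isSplitEpi iK
  haveI : IsIso iK.left := inferInstanceAs (IsIso ((Over.forget _).map iK))
  rw [← hfac, Over.comp_left, Scheme.Hom.ker_comp, hker, Scheme.IdealSheafData.map_bot]
  exact Scheme.Hom.ker_eq_bot_of_isIso _

/-- A torsor with schematically dominant classifying homomorphism is Nori-reduced. -/
theorem reduced_of_ker_eq_bot (hx : x ≫ sX = 𝟙 _) {a : AlgGrp.Action (Red.bc sX πN) P}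
    (hP : NoriFGS.IsFGS x πN a p)
    {G : Over (Spec (CommRingCat.of k))} [GrpObj G] [IsFinite G.hom] {T : Over X}
    {b : AlgGrp.Action (Red.bc sX G) T} {t : Spec (CommRingCat.of k) ⟶ T.left}
    (hb : NonAbH1.IsTorsorFor Kf b) (ht : t ≫ T.hom = x) {ψ : πN ⟶ G} [IsMonHom ψ] {F : P ⟶ T}
    (hF : NoriFGS.IsPtTorsorHom a p b t ψ F) (hker : ψ.left.ker = ⊥) : NoriFGS.IsNoriReduced Kf b := by
  intro H _ i _ _ V j _ bV hbV hj
  haveI : IsFinite H.hom := by rw [← Over.w i]; infer_instance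
  obtain ⟨K', _, _, iK', _, _, V', j', _, b', t', htor, hequiv, hjt, ht', hiso⟩ :=
    exists_pointed_reduction x hx i j t ht hb.1 hbV hj
  obtain ⟨φ', _, f', hf', -⟩ := hP.2.2.2 K' V' b' t' htor ht'
  obtain ⟨φ₀, _, F₀, -, hu₀⟩ := hP.2.2.2 G T b t hb ht
  have hpair : NoriFGS.IsPtTorsorHom a p b t (φ' ≫ iK') (f' ≫ j') := by
    refine ⟨isEquivariant_of_points ((Over.pullback sX).map (φ' ≫ iK')) a b (f' ≫ j') fun W g w => ?_, ?_⟩
    · rw [← Category.assoc, actPt_comp hf'.1, actPt_comp hequiv, Functor.map_comp, Category.assoc, Category.assoc]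
    · rw [Over.comp_left, ← Category.assoc, hf'.2, hjt]
  have e : φ' ≫ iK' = ψ := (hu₀ (φ' ≫ iK') (f' ≫ j') hpair).1.trans (hu₀ ψ F hF).1.symm
  haveI : IsAffine G.left := isAffine_of_isAffineHom G.hom
  obtain ⟨z, hz⟩ := SGA3xLib.SchemImage26.exists_factor ψ hker (𝟙 G) iK' φ' (by rw [Category.comp_id, e])
  haveI : Mono iK' := Over.mono_of_mono_left iK'
  exact hiso ⟨z, by rw [← cancel_mono iK', Category.assoc, hz, Category.comp_id, Category.id_comp], hz⟩

end NoriFGS27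
end Groth.Agent
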