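import Groth.Agent.NoriFGS27.Universal

/-!
# Criteria on homomorphisms of fundamental group schemes
-/

set_option autoImplicit false
set_option linter.all false
set_option backward.isDefEq.respectTransparency.types false
set_option maxHeartbeats 1000000

universe u

open CategoryTheory CategoryTheory.Limits AlgebraicGeometry MonoidalCategory CartesianMonoidalCategory MonObj

namespace Groth.Agent
namespace NoriFGS27

open NonAbLib

variable {k : Type u} [Field k]

local notation "Kf" => Scheme.fpqcPrecoverage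

theorem isSeparated_of_finite (G : Over (Spec (CommRingCat.of k))) [IsFinite G.hom] : IsSeparated G.hom := inferInstance

theorem isClosedImmersion_inducedHom {X Y : Scheme.{u}}
    [X.Over (Spec (CommRingCat.of k))] [Y.Over (Spec (CommRingCat.of k))]
    {x : Spec (CommRingCat.of k) ⟶ X} {y : Spec (CommRingCat.of k) ⟶ Y}
    (hx : x ≫ (X ↘ Spec (CommRingCat.of k)) = 𝟙 _)
    (f : X ⟶ Y) (hf : f ≫ (Y ↘ Spec (CommRingCat.of k)) = X ↘ Spec (CommRingCat.of k)) (hfx : x ≫ f = y)
    {πX πY : Over (Spec (CommRingCat.of k))} [GrpObj πX] [GrpObj πY] {PX : Over X} {PY : Over Y}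
    {aX : AlgGrp.Action (Red.bc (X ↘ Spec (CommRingCat.of k)) πX) PX}
    {aY : AlgGrp.Action (Red.bc (Y ↘ Spec (CommRingCat.of k)) πY) PY}
    {pX : Spec (CommRingCat.of k) ⟶ PX.left} {pY : Spec (CommRingCat.of k) ⟶ PY.left}
    (hX : NoriFGS.IsFGS x πX aX pX) (hY : NoriFGS.IsFGS y πY aY pY)
    {φ : πX ⟶ πY} (hφ : NoriFGS.IsInducedHom f hf aX pX aY pY φ)
    (hsub : ∀ (G : Over (Spec (CommRingCat.of k))) [GrpObj G] [IsFinite G.hom] (T : Over X)
      (b : AlgGrp.Action (Red.bc (X ↘ Spec (CommRingCat.of k)) G) T) (t : Spec (CommRingCat.of k) ⟶ T.left),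
      NonAbH1.IsTorsorFor Kf b → t ≫ T.hom = x → NoriFGS.IsNoriReduced Kf b →
      ∃ (H : Over (Spec (CommRingCat.of k))) (_ : GrpObj H) (_ : IsFinite H.hom) (U : Over Y)
        (c : AlgGrp.Action (Red.bc (Y ↘ Spec (CommRingCat.of k)) H) U) (u : Spec (CommRingCat.of k) ⟶ U.left)
        (i : G ⟶ H) (_ : IsMonHom i) (_ : IsClosedImmersion i.left)
        (j : T ⟶ Red.bc f U) (_ : IsClosedImmersion j.left),
        NonAbH1.IsTorsorFor Kf c ∧ u ≫ U.hom = y ∧ NoriFGS.IsNoriReduced Kf c ∧
        AlgGrp.Action.IsEquivariant b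
          ((pullAct hf c).restrict ((Over.pullback (X ↘ Spec (CommRingCat.of k))).map i)) j ∧
        t ≫ j.left ≫ pullback.fst U.hom f = u) :
    IsClosedImmersion φ.left := by
  obtain ⟨hφm, g, hg, hgp⟩ := hφ
  obtain ⟨pres⟩ := hX.1
  haveI := isAffine_of_proFinite pres
  haveI := isAffine_of_proFinite hY.1.some
  letI := pres.cat
  haveI := pres.cofiltered
  letI := pres.grp
  obtain ⟨Z, _, m, q, _, _, hqm, hmc, hker, _, -⟩ := SGA3xLib.SchemImage26.exists_image φ
  have key : ∀ i, ∃ r : Z ⟶ pres.D.obj i, q ≫ r = pres.π.app i := by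
    intro i
    haveI : IsMonHom (show πX ⟶ pres.D.obj i from pres.π.app i) := pres.isMonHom_π i
    haveI : IsFinite (pres.D.obj i).hom := pres.finite i
    obtain ⟨K, _, _, iK, _, _, φi, _, hfac, -, -, T, b, F, hb, ht, hF, hred⟩ :=
      exists_reduced_quotient hx hX (show πX ⟶ pres.D.obj i from pres.π.app i)
    obtain ⟨H, _, _, U, c, u, iH, _, _, j, _, hc, hu, -, hj, hju⟩ := hsub K T b _ hb ht hred
    obtain ⟨ψ, _, FY, hFY, -⟩ := hY.2.2.2 H U c u hc hu
    have ht' : ((pX ≫ F.left) ≫ j.left) ≫ (Red.bc f U).hom = x := by rw [Category.assoc, Over.w j, ht]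
    obtain ⟨φ', _, F', -, hu'⟩ := hX.2.2.2 H (Red.bc f U) (pullAct hf c) ((pX ≫ F.left) ≫ j.left)
      (isTorsorFor_pullAct hf hc) ht'
    have h1 : NoriFGS.IsPtTorsorHom aX pX (pullAct hf c) ((pX ≫ F.left) ≫ j.left) (φi ≫ iH) (F ≫ j) := by
      refine ⟨isEquivariant_of_points ((Over.pullback (X ↘ Spec (CommRingCat.of k))).map (φi ≫ iH)) aX _ _
        fun W e w => ?_, ?_⟩
      · rw [← Category.assoc, actPt_comp hF.1, actPt_comp hj, Functor.map_comp, Category.assoc, Category.assoc]
      · rw [Over.comp_left, Category.assoc]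
    have h2 := isPtTorsorHom_induced hf hg hgp hX.2.2.1 hFY ((pX ≫ F.left) ≫ j.left)
      (by rw [Category.assoc, Category.assoc, ← hju, Category.assoc]) ht'
    have e : φ ≫ ψ = φi ≫ iH := (hu' _ _ h2).1.trans (hu' _ _ h1).1.symm
    obtain ⟨r, hr⟩ := SGA3xLib.SchemImage26.exists_factor q hker (m ≫ ψ) iH φi
      (by rw [← Category.assoc, hqm, e])
    haveI : Mono iH := Over.mono_of_mono_left iH
    refine ⟨r ≫ iK, ?_⟩
    have hqr : q ≫ r = φi := by rw [← cancel_mono iH, Category.assoc, hr, ← Category.assoc, hqm, e]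
    rw [← Category.assoc, hqr, hfac]
  choose r hr using key
  have nat : ∀ ⦃i i' : pres.I⦄ (h : i ⟶ i'), ((Functor.const pres.I).obj Z).map h ≫ r i' = r i ≫ pres.D.map h := by
    intro i i' h
    haveI : IsFinite (pres.D.obj i').hom := pres.finite i'
    haveI := isSeparated_of_finite (pres.D.obj i')
    refine cancel_of_ker q hker ?_
    show q ≫ 𝟙 Z ≫ r i' = q ≫ r i ≫ pres.D.map h
    rw [Category.id_comp, hr, ← Category.assoc, hr]
    simpa using pres.π.naturality h
  let cZ : Cone pres.D := ⟨Z, { app := r, naturality := nat }⟩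
  let s : Z ⟶ πX := pres.isLimit.lift cZ
  have hqs : q ≫ s = 𝟙 πX := pres.isLimit.hom_ext fun i => by
    rw [Category.assoc]
    show q ≫ pres.isLimit.lift cZ ≫ pres.π.app i = 𝟙 πX ≫ pres.π.app i
    rw [show pres.isLimit.lift cZ ≫ pres.π.app i = r i from pres.isLimit.fac cZ i, hr, Category.id_comp]
  haveI : IsAffineHom m.left := inferInstance
  haveI : IsAffine Z.left := isAffine_of_isAffineHom m.left
  haveI : IsSeparated Z.hom := inferInstance
  have hsq : s ≫ q = 𝟙 Z := cancel_of_ker q hker (by rw [← Category.assoc, hqs, Category.id_comp, Category.comp_id])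
  haveI : IsIso q := ⟨s, hqs, hsq⟩
  haveI : IsIso q.left := inferInstanceAs (IsIso ((Over.forget _).map q))
  rw [← hqm, Over.comp_left]
  infer_instance

theorem eq_trivial_iff {X Y : Scheme.{u}}
    [X.Over (Spec (CommRingCat.of k))] [Y.Over (Spec (CommRingCat.of k))]
    {x : Spec (CommRingCat.of k) ⟶ X} {y : Spec (CommRingCat.of k) ⟶ Y}
    (hx : x ≫ (X ↘ Spec (CommRingCat.of k)) = 𝟙 _) (hy : y ≫ (Y ↘ Spec (CommRingCat.of k)) = 𝟙 _)
    (f : X ⟶ Y) (hf : f ≫ (Y ↘ Spec (CommRingCat.of k)) = X ↘ Spec (CommRingCat.of k)) (hfx : x ≫ f = y)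
    {πX πY : Over (Spec (CommRingCat.of k))} [GrpObj πX] [GrpObj πY] {PX : Over X} {PY : Over Y}
    {aX : AlgGrp.Action (Red.bc (X ↘ Spec (CommRingCat.of k)) πX) PX}
    {aY : AlgGrp.Action (Red.bc (Y ↘ Spec (CommRingCat.of k)) πY) PY}
    {pX : Spec (CommRingCat.of k) ⟶ PX.left} {pY : Spec (CommRingCat.of k) ⟶ PY.left}
    (hX : NoriFGS.IsFGS x πX aX pX) (hY : NoriFGS.IsFGS y πY aY pY)
    {φ : πX ⟶ πY} (hφ : NoriFGS.IsInducedHom f hf aX pX aY pY φ) :
    φ = toUnit πX ≫ η[πY] ↔
      ∀ (H : Over (Spec (CommRingCat.of k))) [GrpObj H] [IsFinite H.hom] (U : Over Y)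
        (c : AlgGrp.Action (Red.bc (Y ↘ Spec (CommRingCat.of k)) H) U) (u : Spec (CommRingCat.of k) ⟶ U.left),
        NonAbH1.IsTorsorFor Kf c → u ≫ U.hom = y → NoriFGS.IsNoriReduced Kf c → NonAbH1.HasSectionOver U f := by
  obtain ⟨hφm, g, hg, hgp⟩ := hφ
  constructor
  · intro htriv H _ _ U c u hc hu _
    obtain ⟨ψ, _, FY, hFY, -⟩ := hY.2.2.2 H U c u hc hu
    let w : Spec (CommRingCat.of k) ⟶ (Red.bc f U).left := pullback.lift u x (hu.trans hfx.symm)
    have h2 := isPtTorsorHom_induced hf hg hgp hX.2.2.1 hFY w (pullback.lift_fst _ _ _) (pullback.lift_snd _ _ _)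
    let F := g ≫ (Over.pullback f).map FY
    have hinv : aX.act ≫ F = snd (Red.bc (X ↘ Spec (CommRingCat.of k)) πX) PX ≫ F := by
      apply AlgGrp.Action.hom_ext_lift₂
      intro W e v
      rw [lift_snd_assoc, ← Category.assoc]
      show actPt aX e v ≫ F = v ≫ F
      rw [actPt_comp h2.1]
      have h1 : φ ≫ ψ = 1 := by
        rw [htriv, Category.assoc, IsMonHom.one_hom, Hom.one_def]
      have h3 : (Over.pullback (X ↘ Spec (CommRingCat.of k))).map (φ ≫ ψ) = 1 := by
        rw [h1, Hom.one_def, Hom.one_def, Functor.map_comp, Functor.obj.η_def, ← Category.assoc]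
        congr 1
        rw [← cancel_mono (Functor.OplaxMonoidal.η (Over.pullback (X ↘ Spec (CommRingCat.of k))))]
        exact toUnit_unique _ _
      rw [h3, MonObj.comp_one, actPt_one]
    obtain ⟨inj, hdesc⟩ := existsUnique_desc hX.2.1 U.left
    obtain ⟨s, hs⟩ := (hdesc (F.left ≫ pullback.fst U.hom f)).2 (by
      rw [← Category.assoc, ← Over.comp_left, hinv, Over.comp_left, Category.assoc])
    refine ⟨s, ?_⟩
    refine (existsUnique_desc hX.2.1 Y).1 ?_
    show PX.hom ≫ s ≫ U.hom = PX.hom ≫ f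
    rw [reassoc_of% hs, pullback.condition, ← Category.assoc]
    congr 1
    exact Over.w F
  · intro H
    obtain ⟨pres⟩ := hY.1
    letI := pres.cat
    haveI := pres.cofiltered
    letI := pres.grp
    have key : ∀ i, φ ≫ pres.π.app i = 1 := by
      intro i
      haveI : IsMonHom (show πY ⟶ pres.D.obj i from pres.π.app i) := pres.isMonHom_π i
      haveI : IsFinite (pres.D.obj i).hom := pres.finite i
      obtain ⟨K, _, _, iK, _, _, φi, _, hfac, -, -, T, c, F, hc, ht, hF, hred⟩ :=
        exists_reduced_quotient hy hY (show πY ⟶ pres.D.obj i from pres.π.app i)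
      obtain ⟨s, hs⟩ := H K T c _ hc ht hred
      let sX := (X ↘ Spec (CommRingCat.of k))
      let w : Spec (CommRingCat.of k) ⟶ (Red.bc f T).left := pullback.lift (pY ≫ F.left) x (ht.trans hfx.symm)
      have hwx : w ≫ (Red.bc f T).hom = x := pullback.lift_snd _ _ _
      let σ : Over.mk (𝟙 X) ⟶ Red.bc f T := Over.homMk (pullback.lift s (𝟙 X) (hs.trans (Category.id_comp f).symm))
        (pullback.lift_snd _ _ _)
      let U₁ := 𝟙_ (Over (Spec (CommRingCat.of k)))
      let hh : toX x U₁ ⟶ Over.mk (𝟙 X) := Over.homMk (U₁.hom ≫ x) (Category.comp_id _)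
      let b := pullAct hf c
      have hb := isTorsorFor_pullAct hf hc
      obtain ⟨g₁, hg₁, -⟩ := existsUnique_actPt hb.1 (hh ≫ σ) (tU x w hwx U₁)
      let g₀ := (eU x hx U₁).inv ≫ (he (toX x U₁) K).symm g₁
      let gam : Over.mk (𝟙 X) ⟶ Red.bc sX K :=
        he (Over.mk (𝟙 X)) K (toUnit ((Over.map sX).obj (Over.mk (𝟙 X))) ≫ g₀)
      let σ' := actPt b gam σ
      have hgam : hh ≫ gam = g₁ := by
        show hh ≫ he (Over.mk (𝟙 X)) K (toUnit ((Over.map sX).obj (Over.mk (𝟙 X))) ≫ g₀) = g₁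
        rw [he_comp, ← Category.assoc, toUnit_unique ((Over.map sX).map hh ≫ toUnit _) (eU x hx U₁).hom,
          Iso.hom_inv_id_assoc, Equiv.apply_symm_apply]
      have hσ' : x ≫ σ'.left = w := by
        have h1 : hh ≫ σ' = tU x w hwx U₁ := by rw [comp_actPt, hgam, hg₁]
        have h1' : (U₁.hom ≫ x) ≫ σ'.left = U₁.hom ≫ w := congrArg CommaMorphism.left h1
        rw [Category.assoc] at h1'
        have hU : U₁.hom = 𝟙 _ := rfl
        rwa [hU, Category.id_comp, Category.id_comp] at h1'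
      let P₁ : PX ⟶ Over.mk (𝟙 X) := Over.homMk PX.hom (Category.comp_id _)
      obtain ⟨φ', _, F', -, hu'⟩ := hX.2.2.2 K (Red.bc f T) b w hb hwx
      have h2 := isPtTorsorHom_induced hf hg hgp hX.2.2.1 hF w (pullback.lift_fst _ _ _) hwx
      haveI : IsMonHom (1 : πX ⟶ K) := inferInstanceAs (IsMonHom (toUnit πX ≫ η[K]))
      have h1 : NoriFGS.IsPtTorsorHom aX pX b w (1 : πX ⟶ K) (P₁ ≫ σ') := by
        refine ⟨isEquivariant_of_points ((Over.pullback sX).map (1 : πX ⟶ K)) aX _ _ fun W e v => ?_, ?_⟩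
        · have e1 : e ≫ (Over.pullback sX).map (1 : πX ⟶ K) = 1 := by
            have h3 := ((Over.mapPullbackAdj sX).homEquiv_naturality_right ((he W πX).symm e) (1 : πX ⟶ K))
            rw [MonObj.comp_one, Equiv.apply_symm_apply] at h3
            rw [← h3]
            have h4 := he_mul (X := X) (G := K) (W := W) 1 1
            rw [_root_.one_mul] at h4
            exact left_eq_mul.mp h4
          rw [e1, actPt_one, ← Category.assoc, ← Category.assoc]
          congr 1
          apply Over.OverMorphism.ext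
          show (actPt aX e v).left ≫ PX.hom = v.left ≫ PX.hom
          rw [Over.w, Over.w]
        · rw [Over.comp_left, ← Category.assoc]
          show (pX ≫ PX.hom) ≫ σ'.left = w
          rw [hX.2.2.1, hσ']
      have e : φ ≫ φi = 1 := (hu' _ _ h2).1.trans (hu' _ _ h1).1.symm
      exact (congrArg (φ ≫ ·) hfac).symm.trans (by show φ ≫ φi ≫ iK = 1; rw [← Category.assoc, e, MonObj.one_comp])
    refine pres.isLimit.hom_ext fun i => ?_
    show φ ≫ pres.π.app i = (toUnit πX ≫ η[πY]) ≫ pres.π.app i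
    haveI : IsMonHom (show πY ⟶ pres.D.obj i from pres.π.app i) := pres.isMonHom_π i
    rw [key i, Category.assoc]
    exact (Hom.one_def).trans (congrArg (toUnit πX ≫ ·) (IsMonHom.one_hom (show πY ⟶ pres.D.obj i from pres.π.app i)).symm)

theorem isFinite_of_bounded {X : Scheme.{u}} [X.Over (Spec (CommRingCat.of k))]
    {x : Spec (CommRingCat.of k) ⟶ X} (hx : x ≫ (X ↘ Spec (CommRingCat.of k)) = 𝟙 _)
    {πN : Over (Spec (CommRingCat.of k))} [GrpObj πN] {P : Over X}
    {a : AlgGrp.Action (Red.bc (X ↘ Spec (CommRingCat.of k)) πN) P} {p : Spec (CommRingCat.of k) ⟶ P.left}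
    (hP : NoriFGS.IsFGS x πN a p) (M : ℕ)
    (hM : ∀ (G : Over (Spec (CommRingCat.of k))) [GrpObj G] [IsFinite G.hom] (T : Over X)
      (b : AlgGrp.Action (Red.bc (X ↘ Spec (CommRingCat.of k)) G) T) (t : Spec (CommRingCat.of k) ⟶ T.left),
      NonAbH1.IsTorsorFor Kf b → t ≫ T.hom = x →
      NoriFGS.IsNoriReduced Kf b →
      @Module.finrank k (Coh.Γtop G.left) _ _ (Module.compHom (Coh.Γtop G.left) (Coh.toGlobal G.hom)) ≤ M) :
    IsFinite πN.hom := by
  obtain ⟨pres⟩ := hP.1
  haveI := isAffine_of_proFinite pres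
  letI := pres.cat
  haveI := pres.cofiltered
  letI := pres.grp
  have key : ∀ i, ∃ (K : Over (Spec (CommRingCat.of k))) (_ : IsFinite K.hom) (iK : K ⟶ pres.D.obj i)
      (_ : IsClosedImmersion iK.left) (φi : πN ⟶ K), φi ≫ iK = pres.π.app i ∧ φi.left.ker = ⊥ ∧
      @Module.finrank k (Coh.Γtop K.left) _ _ (Module.compHom (Coh.Γtop K.left) (Coh.toGlobal K.hom)) ≤ M := by
    intro i
    haveI : IsMonHom (show πN ⟶ pres.D.obj i from pres.π.app i) := pres.isMonHom_π i
    haveI : IsFinite (pres.D.obj i).hom := pres.finite i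
    obtain ⟨K, _, hKf, iK, _, hiK, φi, _, hfac, hker, -, T, b, F, hb, ht, -, hred⟩ :=
      exists_reduced_quotient hx hP (show πN ⟶ pres.D.obj i from pres.π.app i)
    exact ⟨K, hKf, iK, hiK, φi, hfac, hker, hM K T b _ hb ht hred⟩
  choose K hKf iK hiK φi hfac hker hle using key
  let n : pres.I → ℕ := fun i =>
    @Module.finrank k (Coh.Γtop (K i).left) _ _ (Module.compHom (Coh.Γtop (K i).left) (Coh.toGlobal (K i).hom))
  haveI : Nonempty pres.I := IsCofiltered.nonempty
  obtain ⟨i₀, hi₀⟩ : ∃ i₀, ∀ i, n i ≤ n i₀ := by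
    have hfin : (Set.range n).Finite := (Set.finite_Iic M).subset (by rintro _ ⟨i, rfl⟩; exact hle i)
    obtain ⟨m, ⟨i₀, rfl⟩, hm⟩ := hfin.exists_maximalFor id _ (Set.range_nonempty n)
    exact ⟨i₀, fun i => le_of_not_gt fun h => (hm ⟨i, rfl⟩ h.le).not_gt h⟩
  have step : ∀ j (h : j ⟶ i₀), ∃ r : K j ⟶ K i₀, φi j ≫ r = φi i₀ ∧ IsIso r := by
    intro j h
    haveI := hiK i₀
    haveI := hKf j
    haveI := hKf i₀
    have hπ : pres.π.app j ≫ pres.D.map h = pres.π.app i₀ := by
      simpa using (pres.π.naturality h).symm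
    obtain ⟨r, hr⟩ := SGA3xLib.SchemImage26.exists_factor (φi j) (hker j) (iK j ≫ pres.D.map h) (iK i₀) (φi i₀)
      (by rw [← Category.assoc, hfac, hfac, hπ])
    haveI : Mono (iK i₀) := Over.mono_of_mono_left (iK i₀)
    have e : φi j ≫ r = φi i₀ := by
      rw [← cancel_mono (iK i₀), Category.assoc, hr, ← Category.assoc, hfac, hfac, hπ]
    haveI : IsAffine (K i₀).left := isAffine_of_isAffineHom (K i₀).hom
    haveI : IsAffine (K j).left := isAffine_of_isAffineHom (K j).hom
    haveI : QuasiCompact (φi j).left := inferInstance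
    have hk : r.left.ker = ⊥ := by
      have h1 : (φi j ≫ r).left.ker = r.left.ker := by
        rw [Over.comp_left, Scheme.Hom.ker_comp, hker j, Scheme.IdealSheafData.map_bot]
      rw [← h1, e, hker i₀]
    have hinj : Function.Injective r.left.appTop.hom := by
      rw [RingHom.injective_iff_ker_eq_bot]
      have h := Scheme.Hom.ker_apply r.left ⟨⊤, isAffineOpen_top _⟩
      rw [hk, Scheme.IdealSheafData.ideal_bot] at h
      exact h.symm
    refine ⟨r, e, ?_⟩
    letI : Module k (Coh.Γtop (K i₀).left) := Module.compHom _ (Coh.toGlobal (K i₀).hom)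
    letI : Module k (Coh.Γtop (K j).left) := Module.compHom _ (Coh.toGlobal (K j).hom)
    let L : Coh.Γtop (K i₀).left →ₗ[k] Coh.Γtop (K j).left :=
      { toFun := r.left.appTop.hom
        map_add' := map_add _
        map_smul' := fun c z => by
          show r.left.appTop.hom (HMul.hMul (α := Γ((K i₀).left, ⊤)) (β := Γ((K i₀).left, ⊤))
              (Coh.toGlobal (K i₀).hom c) z) =
            HMul.hMul (α := Γ((K j).left, ⊤)) (β := Γ((K j).left, ⊤)) (Coh.toGlobal (K j).hom c) (r.left.appTop.hom z)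
          rw [map_mul]
          congr 1
          have h3 : (K i₀).hom.appTop ≫ r.left.appTop = (K j).hom.appTop := by
            rw [← Scheme.Hom.comp_appTop, Over.w r]
          exact congrArg (fun a => a.hom ((Scheme.ΓSpecIso (CommRingCat.of k)).inv.hom c)) h3 }
    haveI : Module.Finite k (Coh.Γtop (K j).left) := by
      have h4 : (K j).hom.appTop.hom.Finite := by
        have := IsFinite.finite_app (K j).hom ⊤ (isAffineOpen_top _)
        exact this
      have h5 : RingHom.Finite (A := k) (B := Γ((K j).left, ⊤))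
          ((K j).hom.appTop.hom.comp (Scheme.ΓSpecIso (CommRingCat.of k)).inv.hom) :=
        h4.comp (RingHom.Finite.of_surjective _ (Scheme.ΓSpecIso (CommRingCat.of k)).symm.commRingCatIsoToRingEquiv.surjective)
      exact h5
    have hsurj : Function.Surjective r.left.appTop.hom := by
      have h6 : Module.finrank k L.range = Module.finrank k (Coh.Γtop (K j).left) :=
        le_antisymm (Submodule.finrank_le _) ((LinearMap.finrank_range_of_inj (f := L) hinj).symm ▸ hi₀ j)
      have h7 := Submodule.eq_top_of_finrank_eq h6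
      exact fun z => LinearMap.range_eq_top.1 h7 z
    haveI : IsIso r.left.appTop := (ConcreteCategory.isIso_iff_bijective _).2 ⟨hinj, hsurj⟩
    haveI : IsIso r.left := by
      show MorphismProperty.isomorphisms Scheme r.left
      rw [HasAffineProperty.iff_of_isAffine (P := MorphismProperty.isomorphisms Scheme)]
      exact ⟨inferInstance, inferInstance⟩
    haveI : IsIso ((Over.forget _).map r) := inferInstanceAs (IsIso r.left)
    exact isIso_of_reflects_iso r (Over.forget _)
  have cone : ∀ j, ∃ R : K i₀ ⟶ pres.D.obj j, φi i₀ ≫ R = pres.π.app j := by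
    intro j
    let k' := IsCofiltered.min i₀ j
    obtain ⟨r, hr, hiso⟩ := step k' (IsCofiltered.minToLeft i₀ j)
    refine ⟨inv r ≫ iK k' ≫ pres.D.map (IsCofiltered.minToRight i₀ j), ?_⟩
    rw [← hr, Category.assoc, IsIso.hom_inv_id_assoc, ← Category.assoc, hfac]
    simpa using (pres.π.naturality (IsCofiltered.minToRight i₀ j)).symm
  choose R hR using cone
  have nat : ∀ ⦃j j' : pres.I⦄ (h : j ⟶ j'), ((Functor.const pres.I).obj (K i₀)).map h ≫ R j' = R j ≫ pres.D.map h := by
    intro j j' h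
    haveI : IsFinite (pres.D.obj j').hom := pres.finite j'
    haveI := isSeparated_of_finite (pres.D.obj j')
    refine cancel_of_ker (φi i₀) (hker i₀) ?_
    show φi i₀ ≫ 𝟙 _ ≫ R j' = φi i₀ ≫ R j ≫ pres.D.map h
    rw [Category.id_comp, hR, ← Category.assoc, hR]
    simpa using pres.π.naturality h
  let cK : Cone pres.D := ⟨K i₀, { app := R, naturality := nat }⟩
  let s : K i₀ ⟶ πN := pres.isLimit.lift cK
  have hs : φi i₀ ≫ s = 𝟙 πN := pres.isLimit.hom_ext fun j => by
    show (φi i₀ ≫ pres.isLimit.lift cK) ≫ pres.π.app j = 𝟙 πN ≫ pres.π.app j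
    rw [Category.assoc, show pres.isLimit.lift cK ≫ pres.π.app j = R j from pres.isLimit.fac cK j, hR, Category.id_comp]
  haveI := hKf i₀
  haveI := isSeparated_of_finite (K i₀)
  have hs' : s ≫ φi i₀ = 𝟙 (K i₀) :=
    cancel_of_ker (φi i₀) (hker i₀) (by rw [← Category.assoc, hs, Category.id_comp, Category.comp_id])
  haveI : IsIso (φi i₀) := ⟨s, hs, hs'⟩
  haveI : IsIso (φi i₀).left := inferInstanceAs (IsIso ((Over.forget _).map (φi i₀)))
  rw [← Over.w (φi i₀)]
  infer_instance

end NoriFGS27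
end Groth.Agent
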