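import Groth.Agent.NoriFGS27.Comparison
import Groth.Agent.SGA3cLib.MultHomLocus
import Groth.Agent.AlgGrpLib.AntiAffine

/-!
# Finite reductions of torsors and the universal pointed torsor
-/

set_option autoImplicit false
set_option linter.all false
set_option backward.isDefEq.respectTransparency.types false
set_option maxHeartbeats 1000000

universe u

open CategoryTheory CategoryTheory.Limits AlgebraicGeometry MonoidalCategory CartesianMonoidalCategory MonObj

namespace Groth.Agent
namespace NoriFGS27

open NonAbLib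

/-- A finitely generated algebra embedding into a union of finite algebras is finite. -/
theorem finite_of_injective_union {R B C : Type u} [CommRing R] [IsNoetherianRing R] [CommRing B] [CommRing C]
    {rB : R →+* B} (hft : rB.FiniteType) (b : B →+* C) (hb : Function.Injective b)
    (h : ∀ (l : ℕ) (s : Fin l → C), ∃ (A : Type u) (_ : CommRing A) (rA : R →+* A) (a : A →+* C),
      rA.Finite ∧ a.comp rA = b.comp rB ∧ ∀ i, s i ∈ a.range) : rB.Finite := by
  algebraize [rB]
  obtain ⟨S, hS⟩ := Algebra.FiniteType.out (R := R) (A := B)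
  obtain ⟨A, _, rA, a, hA, hcomm, hmem⟩ := h S.card (fun i => b (S.equivFin.symm i))
  letI : Algebra R A := rA.toAlgebra
  letI : Algebra R C := (b.comp rB).toAlgebra
  haveI : Module.Finite R A := hA
  let a' : A →ₐ[R] C := { a with commutes' := fun r => RingHom.congr_fun hcomm r }
  let b' : B →ₐ[R] C := { b with commutes' := fun r => rfl }
  have hle : b'.range ≤ a'.range := by
    rw [← Algebra.map_top, ← hS, AlgHom.map_adjoin, Algebra.adjoin_le_iff]
    rintro _ ⟨s, hs, rfl⟩
    obtain ⟨z, hz⟩ := hmem (S.equivFin ⟨s, hs⟩)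
    refine ⟨z, ?_⟩
    show a z = b s
    rw [hz, Equiv.symm_apply_apply]
  haveI : Module.Finite R (LinearMap.range a'.toLinearMap) := Module.Finite.range _
  haveI : IsNoetherian R (LinearMap.range a'.toLinearMap) := isNoetherian_of_isNoetherianRing_of_finite R _
  exact Module.Finite.of_injective (b'.toLinearMap.codRestrict (LinearMap.range a'.toLinearMap)
    (fun z => hle ⟨z, rfl⟩)) (fun z z' e => hb (congrArg Subtype.val e))

variable {k : Type u} [Field k]

theorem appTop_w {A B : Over (Spec (CommRingCat.of k))} (f : A ⟶ B) :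
    f.left.appTop.hom.comp B.hom.appTop.hom = A.hom.appTop.hom := by
  rw [← CommRingCat.hom_comp, ← Scheme.Hom.comp_appTop, Over.w f]

/-- The image of a profinite group in a group of finite type is finite. -/
theorem exists_finite_image {πN : Over (Spec (CommRingCat.of k))} [GrpObj πN] (pres : NoriFGS.ProFinPres πN)
    {G : Over (Spec (CommRingCat.of k))} [GrpObj G] [IsAffine G.left] [LocallyOfFiniteType G.hom]
    (ρ : πN ⟶ G) [IsMonHom ρ] :
    ∃ (K : Over (Spec (CommRingCat.of k))) (_ : GrpObj K) (_ : IsFinite K.hom) (iK : K ⟶ G) (_ : IsMonHom iK)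
      (φ : πN ⟶ K) (_ : IsMonHom φ), IsClosedImmersion iK.left ∧ φ ≫ iK = ρ := by
  haveI := isAffine_of_proFinite pres
  haveI : QuasiCompact ρ.left := inferInstance
  obtain ⟨K, _, iK, φ, hiK, hφ, hfac, hci, hker, hqc, -⟩ := SGA3xLib.SchemImage26.exists_image ρ
  haveI := hci
  haveI : IsAffine K.left := isAffine_of_isAffineHom iK.left
  haveI : LocallyOfFiniteType K.hom := by rw [← Over.w iK]; infer_instance
  refine ⟨K, inferInstance, ?_, iK, hiK, φ, hφ, hci, hfac⟩
  letI := pres.cat
  haveI := pres.cofiltered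
  letI := pres.grp
  haveI : ∀ i, IsAffine ((pres.D ⋙ Over.forget _).obj i) := fun i => by
    haveI h : IsFinite (pres.D.obj i).hom := pres.finite i
    exact (HasAffineProperty.iff_of_isAffine (P := @IsAffineHom) (f := (pres.D.obj i).hom)).mp h.toIsAffineHom
  have hgen : ∀ s : Γ(πN.left, ⊤), ∃ i t, (pres.π.app i).left.appTop t = s := fun s =>
    exists_appTop_π_eq_of_isAffine_of_isLimit _ _ (isLimitOfPreserves (Over.forget _) pres.isLimit) s
  haveI : IsNoetherianRing k := inferInstance
  haveI : IsNoetherianRing Γ(Spec (CommRingCat.of k), ⊤) :=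
    isNoetherianRing_of_ringEquiv k (Scheme.ΓSpecIso (CommRingCat.of k)).symm.commRingCatIsoToRingEquiv
  have hft : K.hom.appTop.hom.FiniteType :=
    (HasRingHomProperty.iff_of_isAffine (P := @LocallyOfFiniteType) (f := K.hom)).1 inferInstance
  haveI : QuasiCompact φ.left := inferInstance
  have hinj : Function.Injective φ.left.appTop.hom := by
    rw [injective_iff_map_eq_zero]
    intro z hz
    have h1 : z ∈ φ.left.ker.ideal ⟨⊤, isAffineOpen_top K.left⟩ := by
      rw [Scheme.Hom.ker_apply]; exact hz
    rw [hker, Scheme.IdealSheafData.ideal_bot] at h1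
    exact h1
  rw [HasAffineProperty.iff_of_isAffine (P := @IsFinite)]
  refine ⟨inferInstance, finite_of_injective_union hft φ.left.appTop.hom hinj fun l s => ?_⟩
  classical
  choose j t hjt using fun m => hgen (s m)
  obtain ⟨i, hi⟩ := IsCofiltered.inf_objs_exists (Finset.univ.image j)
  haveI : IsFinite (pres.D.obj i).hom := pres.finite i
  refine ⟨Γ((pres.D.obj i).left, ⊤), inferInstance, (pres.D.obj i).hom.appTop.hom,
    (show πN ⟶ pres.D.obj i from pres.π.app i).left.appTop.hom, Scheme.Hom.finite_appTop _, ?_, fun m => ?_⟩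
  · rw [appTop_w, appTop_w]
  · obtain ⟨h⟩ := hi (Finset.mem_image_of_mem j (Finset.mem_univ m))
    have e : pres.π.app i ≫ pres.D.map h = pres.π.app (j m) := by simpa using (pres.π.naturality h).symm
    refine ⟨(pres.D.map h).left.appTop (t m), ?_⟩
    rw [← hjt m, ← e, Over.comp_left, Scheme.Hom.comp_appTop]
    rfl

variable {X : Scheme.{u}} [X.Over (Spec (CommRingCat.of k))]

local notation "sX" => (X ↘ Spec (CommRingCat.of k))

/-- For a finite group, fpqc torsors are fppf torsors. -/
theorem fppf_of_fpqc_finite {K : Over (Spec (CommRingCat.of k))} [GrpObj K] [IsFinite K.hom] {T : Over X}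
    {b : AlgGrp.Action (Red.bc sX K) T} (hb : NonAbH1.IsTorsorFor Scheme.fpqcPrecoverage b) :
    NonAbH1.IsTorsorFor Scheme.fppfPrecoverage b := by
  haveI : Flat K.hom := CubeLib.flat_of_field _
  haveI : LocallyOfFinitePresentation K.hom := LocallyOfFinitePresentation.iff_locallyOfFiniteType.2 inferInstance
  haveI hlfp : MorphismProperty.DescendsAlong @LocallyOfFinitePresentation (@Surjective ⊓ @Flat ⊓ @QuasiCompact) :=
    HasRingHomProperty.descendsAlong_flat RingHom.FinitePresentation.codescendsAlong_faithfullyFlat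
  haveI : Flat T.hom := property_hom @Flat SGA3cLib.MultHomLocus.flat_descends hb
    (MorphismProperty.pullback_snd (P := @Flat) K.hom sX inferInstance)
  haveI : LocallyOfFinitePresentation T.hom := property_hom @LocallyOfFinitePresentation hlfp hb
    (MorphismProperty.pullback_snd (P := @LocallyOfFinitePresentation) K.hom sX inferInstance)
  haveI : Surjective T.hom := surjective_hom b hb
  refine ⟨hb.1, Presieve.singleton T.hom, ?_, ?_⟩
  · exact (Scheme.singleton_mem_precoverage_iff (P := @Flat ⊓ @LocallyOfFinitePresentation) T.hom).2 ⟨Surjective.surj, inferInstance, inferInstance⟩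
  · rintro S' g ⟨⟩
    exact ⟨𝟙 T.left, Category.id_comp _⟩

theorem act_eq_actPt {G T : Over X} [GrpObj G] (b : AlgGrp.Action G T) : b.act = actPt b (fst G T) (snd G T) := by
  rw [actPt, lift_fst_snd, Category.id_comp]

theorem finite_reduction_iff [IsAlgClosed k]
    {x : Spec (CommRingCat.of k) ⟶ X} (hx : x ≫ sX = 𝟙 _)
    {πN : Over (Spec (CommRingCat.of k))} [GrpObj πN] {P : Over X}
    {a : AlgGrp.Action (Red.bc sX πN) P} {p : Spec (CommRingCat.of k) ⟶ P.left}
    (hP : NoriFGS.IsFGS x πN a p)
    {G : Over (Spec (CommRingCat.of k))} [GrpObj G] [IsAffine G.left] [LocallyOfFiniteType G.hom]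
    {F : Over X} {aF : AlgGrp.Action (Red.bc sX G) F} (hF : NonAbH1.IsTorsorFor Scheme.fppfPrecoverage aF) :
    (∃ (Gf : Over (Spec (CommRingCat.of k))) (_ : GrpObj Gf) (_ : IsFinite Gf.hom) (i : Gf ⟶ G) (_ : IsMonHom i)
        (Q : Over X) (c : AlgGrp.Action (Red.bc sX Gf) Q),
        NonAbH1.IsTorsorFor Scheme.fppfPrecoverage c ∧
          NonAbH1.IsPushforwardAlongSch ((Over.pullback sX).map i) c aF) ↔
      ∃ (ρ : πN ⟶ G) (_ : IsMonHom ρ),
        NonAbH1.IsPushforwardAlongSch ((Over.pullback sX).map ρ) a aF := by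
  constructor
  · rintro ⟨Gf, _, _, i, _, Q, c, hc, fQ, hfQ⟩
    have hc' := fppf_isTorsorFor_fpqc hc
    haveI : Surjective Q.hom := surjective_hom c hc'
    haveI : IsFinite Q.hom := isFinite_torsor_hom hc'
    let Z : Over (Spec (CommRingCat.of k)) := Over.mk (pullback.snd Q.hom x)
    haveI : LocallyOfFiniteType Z.hom := inferInstanceAs (LocallyOfFiniteType (pullback.snd Q.hom x))
    haveI : Nonempty Z.left := ⟨((MorphismProperty.pullback_snd (P := @Surjective) Q.hom x inferInstance).surj
      (IsLocalRing.closedPoint k)).choose⟩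
    obtain ⟨s⟩ := AlgGrpLib.exists_rationalPoint Z
    have hs : s.left ≫ pullback.snd Q.hom x = 𝟙 _ := Over.w s
    let t : Spec (CommRingCat.of k) ⟶ Q.left := s.left ≫ pullback.fst Q.hom x
    have ht : t ≫ Q.hom = x := by
      show (s.left ≫ pullback.fst Q.hom x) ≫ Q.hom = x
      rw [Category.assoc, pullback.condition, reassoc_of% hs]
    obtain ⟨φ, _, f', hf', -⟩ := hP.2.2.2 Gf Q c t hc' ht
    refine ⟨φ ≫ i, inferInstance, f' ≫ fQ, ?_⟩
    rw [act_eq_actPt, ← Category.assoc, actPt_comp hf'.1,
      FlatMor12.TorsorPush.actPt_equivariant ((Over.pullback sX).map i) fQ hfQ, Functor.map_comp]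
    simp only [Category.assoc]
    rfl
  · rintro ⟨ρ, _, fF, hfF⟩
    obtain ⟨K, _, _, iK, _, φ, _, hci, hfac⟩ := exists_finite_image hP.1.some ρ
    haveI := hci
    haveI : Mono iK := Over.mono_of_mono_left iK
    haveI : Mono ((Over.pullback sX).map iK) := inferInstance
    obtain ⟨T₀, b₀, f₀, hb₀, -, hf₀⟩ := exists_push hP φ
    obtain ⟨j₀, -, -, hequiv⟩ := exists_comparison hP.2.1 hb₀.1 hF.1 ((Over.pullback sX).map φ)
      ((Over.pullback sX).map iK) f₀ fF (fun W g w => actPt_comp hf₀.1 g w)
      (fun W g w => by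
        rw [FlatMor12.TorsorPush.actPt_equivariant ((Over.pullback sX).map ρ) fF hfF, Category.assoc,
          ← Functor.map_comp, hfac])
    refine ⟨K, inferInstance, inferInstance, iK, inferInstance, T₀, b₀, fppf_of_fpqc_finite hb₀, j₀, ?_⟩
    rw [act_eq_actPt, hequiv]
    rfl

end NoriFGS27
end Groth.Agent
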