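import Groth.Agent.NoriFGS27.Comparison
import Groth.Agent.HopfQuot.SchemeQuot
import Groth.Agent.HopfLib.FaithfullyFlat
import Mathlib.RingTheory.Flat.EquationalCriterion
import Mathlib.AlgebraicGeometry.Morphisms.Flat

/-!
# Faithful flatness of induced homomorphisms of fundamental group schemes
-/

set_option autoImplicit false
set_option linter.all false
set_option backward.isDefEq.respectTransparency.types false
set_option maxHeartbeats 1000000

universe u

open CategoryTheory CategoryTheory.Limits AlgebraicGeometry MonoidalCategory CartesianMonoidalCategory MonObj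

namespace Groth.Agent
namespace NoriFGS27

open NonAbLib

/-- Flatness over a ring can be tested through subrings containing any given finite family. -/
theorem flat_of_directed {R S : Type u} [CommRing R] [CommRing S] (φ : R →+* S)
    (h : ∀ (l : ℕ) (f : Fin l → R), ∃ (A : Type u) (_ : CommRing A) (g : A →+* R),
      (φ.comp g).Flat ∧ ∀ i, f i ∈ g.range) : φ.Flat := by
  algebraize [φ]
  show Module.Flat R S
  rw [Module.Flat.iff_forall_isTrivialRelation]
  intro l f x hx
  obtain ⟨A, _, g, hg, hf⟩ := h l f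
  choose a ha using hf
  letI : Algebra A S := (φ.comp g).toAlgebra
  haveI : Module.Flat A S := hg
  have hx' : ∑ i, a i • x i = 0 := by
    refine Eq.trans (Finset.sum_congr rfl fun i _ => ?_) hx
    show φ (g (a i)) * x i = φ (f i) * x i
    rw [ha]
  obtain ⟨κ, c, y, hy, hc⟩ := Module.Flat.iff_forall_isTrivialRelation.1 ‹Module.Flat A S› hx'
  refine ⟨κ, fun i j => g (c i j), y, fun i => ?_, fun j => ?_⟩
  · rw [hy i]
    rfl
  · show ∑ i, f i * g (c i j) = 0
    rw [← map_zero g, ← hc j, map_sum]
    exact Finset.sum_congr rfl fun i _ => by rw [map_mul, ha]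

theorem injective_of_ker {A B : Scheme.{u}} (q : A ⟶ B) [IsAffine B] [QuasiCompact q] (hq : q.ker = ⊥) :
    Function.Injective q.appTop.hom := by
  rw [injective_iff_map_eq_zero]
  intro x hx
  have h1 : x ∈ q.ker.ideal ⟨⊤, isAffineOpen_top B⟩ := by
    rw [Scheme.Hom.ker_apply]; exact hx
  rw [hq, Scheme.IdealSheafData.ideal_bot] at h1
  exact h1

theorem ker_of_injective {A B : Scheme.{u}} (q : A ⟶ B) [IsAffine B] [QuasiCompact q]
    (hq : Function.Injective q.appTop.hom) : q.ker = ⊥ := by
  rw [Scheme.ker_of_isAffine, (RingHom.injective_iff_ker_eq_bot _).1 hq]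
  exact eq_bot_iff.mpr fun U => by rw [Scheme.IdealSheafData.ofIdealTop_ideal, Ideal.map_bot]; exact bot_le

variable {k : Type u} [Field k]

/-- A schematically dominant homomorphism from an affine group to a finite group is flat. -/
theorem flat_of_ker {A B : Over (Spec (CommRingCat.of k))} [GrpObj A] [GrpObj B] [IsAffine A.left] [IsFinite B.hom]
    (f : A ⟶ B) [IsMonHom f] (hf : f.left.ker = ⊥) : Flat f.left := by
  haveI : IsAffine B.left := isAffine_of_isAffineHom B.hom
  obtain ⟨R, _, _, eA, _, _⟩ := HopfQuot.exists_spec (k := k) A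
  obtain ⟨S, _, _, eB, _, _⟩ := HopfQuot.exists_spec (k := k) B
  haveI : IsMonHom (CategoryTheory.inv eB) := inferInstanceAs (IsMonHom (asIso eB).inv)
  haveI : IsIso eA.left := inferInstanceAs (IsIso ((Over.forget _).map eA))
  haveI : IsIso eB.left := inferInstanceAs (IsIso ((Over.forget _).map eB))
  haveI : IsIso (CategoryTheory.inv eB).left := inferInstanceAs (IsIso ((Over.forget _).map (CategoryTheory.inv eB)))
  obtain ⟨g, hg⟩ := HopfQuot.exists_specHom (eA ≫ f ≫ CategoryTheory.inv eB)
  haveI : IsLocallyNoetherian B.left := LocallyOfFiniteType.isLocallyNoetherian B.hom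
  haveI : IsLocallyNoetherian (HopfQuot.spec (k := k) S).left := isLocallyNoetherian_of_isOpenImmersion eB.left
  haveI : IsNoetherianRing S := (isLocallyNoetherian_Spec (R := CommRingCat.of S)).1 ‹_›
  haveI : QuasiCompact f.left := inferInstance
  have hj : (eA ≫ f ≫ CategoryTheory.inv eB).left.ker = ⊥ := by
    simp only [Over.comp_left]
    rw [Scheme.Hom.ker_comp, Scheme.Hom.ker_eq_bot_of_isIso eA.left, Scheme.IdealSheafData.map_bot,
      Scheme.Hom.ker_comp, hf, Scheme.IdealSheafData.map_bot]
    exact Scheme.Hom.ker_eq_bot_of_isIso _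
  rw [← hg, HopfQuot.specHom_left] at hj
  have hinj : Function.Injective g := by
    haveI : QuasiCompact (Spec.map (CommRingCat.ofHom (g : S →+* R))) := inferInstance
    have h := injective_of_ker (Spec.map (CommRingCat.ofHom (g : S →+* R))) hj
    intro a a' ha
    apply (Scheme.ΓSpecIso (CommRingCat.of S)).symm.commRingCatIsoToRingEquiv.injective
    apply h
    have e2 := Scheme.ΓSpecIso_inv_naturality (CommRingCat.ofHom (g : S →+* R))
    exact ((congrArg (fun m => m.hom a) e2).symm.trans
      ((congrArg (Scheme.ΓSpecIso (CommRingCat.of R)).inv.hom ha))).trans (congrArg (fun m => m.hom a') e2)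
  have hff := HopfLib.faithfullyFlat_of_injective g hinj
  haveI : Flat (HopfQuot.specHom g).left := by
    rw [HopfQuot.specHom_left]; exact Flat.SpecMap_iff.2 hff.flat
  have e' : f = CategoryTheory.inv eA ≫ HopfQuot.specHom g ≫ eB := by
    rw [hg]; simp
  haveI : IsIso (CategoryTheory.inv eA).left := inferInstanceAs (IsIso ((Over.forget _).map (CategoryTheory.inv eA)))
  rw [e', Over.comp_left, Over.comp_left]
  exact MorphismProperty.comp_mem @Flat _ _ inferInstance (MorphismProperty.comp_mem @Flat _ _ inferInstance inferInstance)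

theorem flat_surjective_iff {X Y : Scheme.{u}}
    [X.Over (Spec (CommRingCat.of k))] [Y.Over (Spec (CommRingCat.of k))]
    {x : Spec (CommRingCat.of k) ⟶ X} {y : Spec (CommRingCat.of k) ⟶ Y}
    (hx : x ≫ (X ↘ Spec (CommRingCat.of k)) = 𝟙 _) (hy : y ≫ (Y ↘ Spec (CommRingCat.of k)) = 𝟙 _)
    (f : X ⟶ Y) (hf : f ≫ (Y ↘ Spec (CommRingCat.of k)) = X ↘ Spec (CommRingCat.of k)) (hfx : x ≫ f = y)
    {πX πY : Over (Spec (CommRingCat.of k))} [GrpObj πX] [GrpObj πY] {PX : Over X} {PY : Over Y}
    {aX : AlgGrp.Action (Red.bc (X ↘ Spec (CommRingCat.of k)) πX) PX}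
    {aY : AlgGrp.Action (Red.bc (Y ↘ Spec (CommRingCat.of k)) πY) PY}
    {pX : Spec (CommRingCat.of k) ⟶ PX.left} {pY : Spec (CommRingCat.of k) ⟶ PY.left}
    (hX : NoriFGS.IsFGS x πX aX pX) (hY : NoriFGS.IsFGS y πY aY pY)
    {φ : πX ⟶ πY} (hφ : NoriFGS.IsInducedHom f hf aX pX aY pY φ) :
    (Flat φ.left ∧ Surjective φ.left) ↔
      ∀ (H : Over (Spec (CommRingCat.of k))) [GrpObj H] [IsFinite H.hom] (U : Over Y)
        (c : AlgGrp.Action (Red.bc (Y ↘ Spec (CommRingCat.of k)) H) U) (u : Spec (CommRingCat.of k) ⟶ U.left),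
        NonAbH1.IsTorsorFor Scheme.fpqcPrecoverage c → u ≫ U.hom = y →
        NoriFGS.IsNoriReduced Scheme.fpqcPrecoverage c →
        NoriFGS.IsNoriReduced Scheme.fpqcPrecoverage (pullAct hf c) := by
  obtain ⟨hφm, g, hg, hgp⟩ := hφ
  haveI := isAffine_of_proFinite hX.1.some
  obtain ⟨pres⟩ := hY.1
  haveI := isAffine_of_proFinite pres
  haveI : QuasiCompact φ.left := inferInstance
  constructor
  · rintro ⟨hfl, hsu⟩ H _ _ U c u hc hu hred
    obtain ⟨ψ, _, FY, hFY, -⟩ := hY.2.2.2 H U c u hc hu
    have hψ : ψ.left.ker = ⊥ := ker_eq_bot_of_reduced hy hY hc hu hFY hred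
    let w : Spec (CommRingCat.of k) ⟶ (Red.bc f U).left := pullback.lift u x (hu.trans hfx.symm)
    have hwx : w ≫ (Red.bc f U).hom = x := pullback.lift_snd _ _ _
    have h2 := isPtTorsorHom_induced hf hg hgp hX.2.2.1 hFY w (pullback.lift_fst _ _ _) hwx
    refine reduced_of_ker_eq_bot hx hX (isTorsorFor_pullAct hf hc) hwx h2 ?_
    have hk : φ.left.ker = ⊥ := ker_of_injective _
      ((Flat.flat_and_surjective_iff_faithfullyFlat_of_isAffine φ.left).1 ⟨hfl, hsu⟩).injective
    rw [Over.comp_left, Scheme.Hom.ker_comp, hk, Scheme.IdealSheafData.map_bot, hψ]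
  · intro hred
    letI := pres.cat
    haveI := pres.cofiltered
    letI := pres.grp
    have key : ∀ i, ∃ (K : Over (Spec (CommRingCat.of k))) (_ : GrpObj K) (_ : IsFinite K.hom)
        (iK : K ⟶ pres.D.obj i) (φi : πY ⟶ K), φi ≫ iK = pres.π.app i ∧
        (φ ≫ φi).left.ker = ⊥ ∧ Flat (φ ≫ φi).left := by
      intro i
      haveI : IsMonHom (show πY ⟶ pres.D.obj i from pres.π.app i) := pres.isMonHom_π i
      haveI : IsFinite (pres.D.obj i).hom := pres.finite i
      obtain ⟨K, _, hKf, iK, _, _, φi, _, hfac, -, -, T, c, F, hc, ht, hF, hredT⟩ :=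
        exists_reduced_quotient hy hY (show πY ⟶ pres.D.obj i from pres.π.app i)
      let w : Spec (CommRingCat.of k) ⟶ (Red.bc f T).left := pullback.lift (pY ≫ F.left) x (ht.trans hfx.symm)
      have hwx : w ≫ (Red.bc f T).hom = x := pullback.lift_snd _ _ _
      have h2 := isPtTorsorHom_induced hf hg hgp hX.2.2.1 hF w (pullback.lift_fst _ _ _) hwx
      have hk := ker_eq_bot_of_reduced hx hX (isTorsorFor_pullAct hf hc) hwx h2 (hred K T c _ hc ht hredT)
      exact ⟨K, inferInstance, hKf, iK, φi, hfac, hk, flat_of_ker (φ ≫ φi) hk⟩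
    choose K hKg hKf iK φi hfac hk hfl using key
    haveI : ∀ i, IsAffine (K i).left := fun i => by haveI := hKf i; exact isAffine_of_isAffineHom (K i).hom
    haveI : ∀ i, IsAffine ((pres.D ⋙ Over.forget _).obj i) := fun i => by
      haveI h : IsFinite (pres.D.obj i).hom := pres.finite i
      exact (HasAffineProperty.iff_of_isAffine (P := @IsAffineHom) (f := (pres.D.obj i).hom)).mp h.toIsAffineHom
    have hπ : ∀ i (t : Γ((pres.D.obj i).left, ⊤)),
        (pres.π.app i).left.appTop t ∈ (φi i).left.appTop.hom.range := by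
      intro i t
      refine ⟨(iK i).left.appTop t, ?_⟩
      rw [← hfac i, Over.comp_left, Scheme.Hom.comp_appTop]
      rfl
    have hgen : ∀ s : Γ(πY.left, ⊤), ∃ i t, (pres.π.app i).left.appTop t = s := fun s =>
      exists_appTop_π_eq_of_isAffine_of_isLimit _ _ (isLimitOfPreserves (Over.forget _) pres.isLimit) s
    have hfam : ∀ (l : ℕ) (s : Fin l → Γ(πY.left, ⊤)), ∃ i, ∀ m, s m ∈ (φi i).left.appTop.hom.range := by
      intro l s
      classical
      choose j t hjt using fun m => hgen (s m)
      obtain ⟨i, hi⟩ := IsCofiltered.inf_objs_exists (Finset.univ.image j)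
      refine ⟨i, fun m => ?_⟩
      obtain ⟨h⟩ := hi (Finset.mem_image_of_mem j (Finset.mem_univ m))
      have e : pres.π.app i ≫ pres.D.map h = pres.π.app (j m) := by simpa using (pres.π.naturality h).symm
      rw [← hjt m, ← e, Over.comp_left, Scheme.Hom.comp_appTop]
      exact hπ i _
    have hφker : φ.left.ker = ⊥ := by
      refine ker_of_injective _ ?_
      rw [injective_iff_map_eq_zero]
      intro s hs
      obtain ⟨i, hi⟩ := hfam 1 (fun _ => s)
      obtain ⟨b, hb⟩ := hi 0
      have h := injective_of_ker _ (hk i)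
      have hb0 : b = 0 := by
        apply h
        rw [map_zero, Over.comp_left, Scheme.Hom.comp_appTop]
        show φ.left.appTop.hom ((φi i).left.appTop.hom b) = 0
        rw [hb, hs]
      show s = 0
      rw [← hb, hb0, map_zero]
    refine ⟨?_, SGA3xLib.SchemImage26.surjective_of_ker φ hφker⟩
    rw [HasRingHomProperty.iff_of_isAffine (P := @Flat)]
    refine flat_of_directed _ fun l s => ?_
    obtain ⟨i, hi⟩ := hfam l s
    refine ⟨Γ((K i).left, ⊤), inferInstance, (φi i).left.appTop.hom, ?_, hi⟩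
    have h := hfl i
    rw [HasRingHomProperty.iff_of_isAffine (P := @Flat), Over.comp_left, Scheme.Hom.comp_appTop] at h
    exact h

end NoriFGS27
end Groth.Agent
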