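import Groth.Agent.NoriFGS27.Transporter

/-!
# Pointed reductions of structure group from arbitrary sub-torsors
-/

set_option autoImplicit false
set_option linter.all false
set_option backward.isDefEq.respectTransparency.types false
set_option maxHeartbeats 1000000

universe u

open CategoryTheory CategoryTheory.Limits AlgebraicGeometry MonoidalCategory CartesianMonoidalCategory MonObj

namespace Groth.Agent
namespace NoriFGS27

open NonAbLib

variable {k : Type u} [Field k] {X : Scheme.{u}} [X.Over (Spec (CommRingCat.of k))]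
  (x : Spec (CommRingCat.of k) ⟶ X) (hx : x ≫ (X ↘ Spec (CommRingCat.of k)) = 𝟙 _)

local notation "sX" => (X ↘ Spec (CommRingCat.of k))

variable {G H : Over (Spec (CommRingCat.of k))} [GrpObj G] [GrpObj H] [IsFinite G.hom] (i : H ⟶ G) [IsMonHom i]
  {T V : Over X} (j : V ⟶ T) [IsClosedImmersion j.left] (t : Spec (CommRingCat.of k) ⟶ T.left) (ht : t ≫ T.hom = x)

/-- `C · v ⊆ V`. -/
def InV' (b : AlgGrp.Action (Red.bc sX G) T) {W : Over X} (v : W ⟶ T) : Prop :=
  ∀ (W' : Over X) (h : W' ⟶ W) (c : (Over.map sX).obj W' ⟶ G), InC x hx j t ht b c →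
    InV j (actPt b (he W' G c) (h ≫ v))

theorem inV'_comp {b : AlgGrp.Action (Red.bc sX G) T} {W W' : Over X} {v : W ⟶ T} (h : InV' x hx j t ht b v)
    (f : W' ⟶ W) : InV' x hx j t ht b (f ≫ v) := fun W'' g c hc => by
  rw [← Category.assoc]
  exact h W'' (g ≫ f) c hc

include hx in
/-- A scheme over `X` with structure map through the point. -/
theorem exists_ε {U : Over (Spec (CommRingCat.of k))} (W : Over X) (h : W ⟶ toX x U) :
    ∃ ε : W ⟶ toX x ((Over.map sX).obj W), IsIso ε ∧ ε.left = 𝟙 _ := by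
  have e : W.hom = (W.hom ≫ sX) ≫ x := by
    have e0 : h.left ≫ U.hom ≫ x = W.hom := Over.w h
    conv_rhs => rw [← e0]
    simp only [Category.assoc]
    rw [reassoc_of% hx]
    exact e0.symm
  exact ⟨(Over.isoMk (Iso.refl W.left) ((Category.id_comp _).trans e.symm) : W ≅ toX x ((Over.map sX).obj W)).hom,
    inferInstance, rfl⟩

include hx in
theorem inV'_tU {b : AlgGrp.Action (Red.bc sX G) T} (U : Over (Spec (CommRingCat.of k))) :
    InV' x hx j t ht b (tU x t ht U) := by
  intro W h c hc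
  obtain ⟨ε, -, hε⟩ := exists_ε x hx W h
  have h2 := inV_comp j hc ε
  rw [comp_actPt] at h2
  have e1 : ε ≫ pt x hx c = he W G c := by
    rw [pt, he_comp, ← Category.assoc]
    congr 1
    rw [show (Over.map sX).map ε ≫ (eU x hx ((Over.map sX).obj W)).hom = 𝟙 _ from
      Over.OverMorphism.ext ((Category.comp_id _).trans hε), Category.id_comp]
  have e2 : ε ≫ tU x t ht ((Over.map sX).obj W) = h ≫ tU x t ht U := by
    apply Over.OverMorphism.ext
    show ε.left ≫ (W.hom ≫ sX) ≫ t = h.left ≫ U.hom ≫ t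
    have e0 : h.left ≫ U.hom ≫ x = W.hom := Over.w h
    rw [hε, Category.id_comp, ← e0]
    simp only [Category.assoc]
    rw [reassoc_of% hx]
  rwa [e1, e2] at h2

theorem exists_locus' {b : AlgGrp.Action (Red.bc sX G) T} :
    ∃ (V' : Over X) (j' : V' ⟶ T), IsClosedImmersion j'.left ∧
      ∀ {W : Over X} (v : W ⟶ T), InV j' v ↔ InV' x hx j t ht b v := by
  let Cx : Over X := Red.bc sX (C x hx j t ht b)
  haveI : Flat (C x hx j t ht b).hom := CubeLib.flat_of_field _
  haveI : IsFinite Cx.hom := inferInstanceAs (IsFinite (pullback.snd (C x hx j t ht b).hom sX))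
  haveI : Flat Cx.hom := inferInstanceAs (Flat (pullback.snd (C x hx j t ht b).hom sX))
  haveI : LocallyOfFinitePresentation Cx.hom :=
    inferInstanceAs (LocallyOfFinitePresentation (pullback.snd (C x hx j t ht b).hom sX))
  haveI : IsFinite (snd Cx T).left := inferInstanceAs (IsFinite (pullback.snd Cx.hom T.hom))
  haveI : Flat (snd Cx T).left := inferInstanceAs (Flat (pullback.snd Cx.hom T.hom))
  haveI : LocallyOfFinitePresentation (snd Cx T).left :=
    inferInstanceAs (LocallyOfFinitePresentation (pullback.snd Cx.hom T.hom))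
  let m : Cx ⊗ T ⟶ T := actPt b (fst Cx T ≫ (Over.pullback sX).map (iC x hx j t ht b)) (snd Cx T)
  obtain ⟨Z, hZ⟩ := ClosedUniv5.exists_closed_into (snd Cx T).left m.left j.left.ker
  let V' : Over X := Over.mk (Z.subschemeι ≫ T.hom)
  let j' : V' ⟶ T := Over.homMk Z.subschemeι rfl
  haveI : IsClosedImmersion j'.left := inferInstanceAs (IsClosedImmersion Z.subschemeι)
  refine ⟨V', j', inferInstance, fun {W} v => ?_⟩
  have hker : j'.left.ker = Z := Scheme.IdealSheafData.ker_subschemeι _
  rw [factors_subscheme_iff, ClosedUniv5.factors_iff, hker, hZ]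
  constructor
  · intro H W' h c hc
    obtain ⟨z, rfl⟩ := (inC_iff x hx j t ht c).1 hc
    let zc : W' ⟶ Cx := he W' (C x hx j t ht b) z
    obtain ⟨w, hw⟩ := H W'.left h.left (lift zc (h ≫ v)).left
      (by rw [← Over.comp_left, lift_snd, Over.comp_left])
    have e : lift zc (h ≫ v) ≫ m = actPt b (he W' G (z ≫ iC x hx j t ht b)) (h ≫ v) := by
      rw [comp_actPt, lift_fst_assoc, lift_snd, ← he_map]
    rw [← e, factors_subscheme_iff]
    exact ⟨w, by rw [hw, Over.comp_left]⟩
  · intro H T' a z hz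
    let W' : Over X := Over.mk (a ≫ W.hom)
    let h : W' ⟶ W := Over.homMk a rfl
    let zz : W' ⟶ Cx ⊗ T := Over.homMk z (by
      rw [← Over.w (snd Cx T), ← Category.assoc, hz, Category.assoc, Over.w v]; rfl)
    have e : zz ≫ snd _ _ = h ≫ v := Over.OverMorphism.ext hz
    let c₀ := (he W' (C x hx j t ht b)).symm (zz ≫ fst Cx T)
    have h2 := H W' h (c₀ ≫ iC x hx j t ht b) ((inC_iff x hx j t ht _).2 ⟨c₀, rfl⟩)
    have e2 : zz ≫ m = actPt b (he W' G (c₀ ≫ iC x hx j t ht b)) (h ≫ v) := by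
      rw [comp_actPt, ← he_map, Equiv.apply_symm_apply, Category.assoc, e]
    rw [← e2, factors_subscheme_iff] at h2
    exact h2

/-- The tautological point of `C` over any scheme over `X`, after a faithfully flat cover. -/
theorem exists_cover_inC {b : AlgGrp.Action (Red.bc sX G) T} (hb : NonAbH1.IsPseudoTorsorSch b)
    (hV : Surjective V.hom) (W : Over X) :
    ∃ (W' : Over X) (f : W' ⟶ W) (c : (Over.map sX).obj W' ⟶ G),
      Flat f.left ∧ Surjective f.left ∧ QuasiCompact f.left ∧ InC x hx j t ht b c := by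
  let Cx : Over X := Red.bc sX (C x hx j t ht b)
  haveI : Flat (C x hx j t ht b).hom := CubeLib.flat_of_field _
  haveI := surjective_C x hx j t ht hb hV
  haveI : Flat Cx.hom := inferInstanceAs (Flat (pullback.snd (C x hx j t ht b).hom sX))
  haveI : Surjective Cx.hom := inferInstanceAs (Surjective (pullback.snd (C x hx j t ht b).hom sX))
  haveI : IsFinite Cx.hom := inferInstanceAs (IsFinite (pullback.snd (C x hx j t ht b).hom sX))
  refine ⟨W ⊗ Cx, fst W Cx, (he (W ⊗ Cx) (C x hx j t ht b)).symm (snd W Cx) ≫ iC x hx j t ht b,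
    inferInstanceAs (Flat (pullback.fst W.hom Cx.hom)), inferInstanceAs (Surjective (pullback.fst W.hom Cx.hom)),
    inferInstanceAs (QuasiCompact (pullback.fst W.hom Cx.hom)), (inC_iff x hx j t ht _).2 ⟨_, rfl⟩⟩


/-- Descent of membership in `C`. -/
theorem inC_of_cover {b : AlgGrp.Action (Red.bc sX G) T} {W W' : Over X} (f : W' ⟶ W) [Flat f.left] [Surjective f.left] [QuasiCompact f.left]
    {c : (Over.map sX).obj W ⟶ G} (h : InC x hx j t ht b ((Over.map sX).map f ≫ c)) : InC x hx j t ht b c := by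
  rw [inC_iff] at h ⊢
  haveI : Flat ((Over.map sX).map f).left := inferInstanceAs (Flat f.left)
  haveI : Surjective ((Over.map sX).map f).left := inferInstanceAs (Surjective f.left)
  haveI : QuasiCompact ((Over.map sX).map f).left := inferInstanceAs (QuasiCompact f.left)
  exact inV_of_cover _ ((Over.map sX).map f) c h

theorem inK_aux {b : AlgGrp.Action (Red.bc sX G) T} {bV : AlgGrp.Action (Red.bc sX H) V} (hb : NonAbH1.IsPseudoTorsorSch b) (hbV : NonAbH1.IsTorsorFor Scheme.fpqcPrecoverage bV)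
    (hj : AlgGrp.Action.IsEquivariant bV (b.restrict ((Over.pullback sX).map i)) j)
    {W : Over X} {v v' : W ⟶ T} (hv : InV' x hx j t ht b v) (hv' : InV' x hx j t ht b v')
    {g : (Over.map sX).obj W ⟶ G} (hg : actPt b (he W G g) v = v')
    {U : Over (Spec (CommRingCat.of k))} (h : U ⟶ (Over.map sX).obj W) {c : U ⟶ G} (hc : InC x hx j t ht b c) :
    InC x hx j t ht b (c * (h ≫ g)) := by
  let W₁ : Over X := Over.mk (h.left ≫ W.hom)
  let h₁ : W₁ ⟶ W := Over.homMk h.left rfl
  let ρ : (Over.map sX).obj W₁ ≅ U := Over.isoMk (Iso.refl _) (by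
    show 𝟙 _ ≫ U.hom = (h.left ≫ W.hom) ≫ sX
    rw [Category.id_comp, ← Over.w h, Category.assoc]
    rfl)
  have hρ : ρ.hom ≫ h = (Over.map sX).map h₁ := Over.OverMorphism.ext (Category.id_comp _)
  let c₁ : (Over.map sX).obj W₁ ⟶ G := ρ.hom ≫ c
  have hc₁ : InC x hx j t ht b c₁ := inC_comp x hx j t ht ρ.hom hc
  let a' : (Over.map sX).obj W₁ ⟶ G := c₁ * ((Over.map sX).map h₁ ≫ g)
  have ha' : InV j (actPt b (he W₁ G a') (h₁ ≫ v)) := by
    show InV j (actPt b (he W₁ G (c₁ * ((Over.map sX).map h₁ ≫ g))) (h₁ ≫ v))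
    rw [he_mul, actPt_mul, ← he_comp, ← comp_actPt, hg]
    exact hv' W₁ h₁ c₁ hc₁
  obtain ⟨W₂, f, c₂, _, _, _, hc₂⟩ := exists_cover_inC x hx j t ht hb (surjective_hom bV hbV) W₁
  have h2 : InC x hx j t ht b ((Over.map sX).map f ≫ a') := by
    have e1 : InV j (actPt b (he W₂ G ((Over.map sX).map f ≫ a')) (f ≫ h₁ ≫ v)) := by
      rw [← he_comp, ← comp_actPt]
      exact inV_comp j ha' f
    have e2 : InV j (actPt b (he W₂ G c₂) (f ≫ h₁ ≫ v)) := by
      rw [← Category.assoc]; exact hv W₂ (f ≫ h₁) c₂ hc₂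
    obtain ⟨eh, heh⟩ := exists_left i j hb hbV.1 hj e2 e1
    rw [heh]
    exact inC_left x hx i j t ht hj eh hc₂
  have h3 := inC_comp x hx j t ht ρ.inv (inC_of_cover x hx j t ht f h2)
  have e : ρ.inv ≫ a' = c * (h ≫ g) := by
    show ρ.inv ≫ (c₁ * ((Over.map sX).map h₁ ≫ g)) = _
    rw [MonObj.comp_mul, ← hρ]
    simp [c₁]
  rwa [e] at h3

include hx ht in
/-- A sub-torsor yields a pointed reduction; if that reduction is trivial, so is the sub-torsor. -/
theorem exists_pointed_reduction {b : AlgGrp.Action (Red.bc sX G) T} {bV : AlgGrp.Action (Red.bc sX H) V} (hb : NonAbH1.IsPseudoTorsorSch b)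
    (hbV : NonAbH1.IsTorsorFor Scheme.fpqcPrecoverage bV) [IsFinite H.hom]
    (hj : AlgGrp.Action.IsEquivariant bV (b.restrict ((Over.pullback sX).map i)) j) :
    ∃ (K : Over (Spec (CommRingCat.of k))) (_ : GrpObj K) (_ : IsFinite K.hom) (iK : K ⟶ G) (_ : IsMonHom iK)
      (_ : IsClosedImmersion iK.left) (V' : Over X) (j' : V' ⟶ T) (_ : IsClosedImmersion j'.left)
      (b' : AlgGrp.Action (Red.bc sX K) V') (t' : Spec (CommRingCat.of k) ⟶ V'.left),
      NonAbH1.IsTorsorFor Scheme.fpqcPrecoverage b' ∧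
      AlgGrp.Action.IsEquivariant b' (b.restrict ((Over.pullback sX).map iK)) j' ∧
      t' ≫ j'.left = t ∧ t' ≫ V'.hom = x ∧ (IsIso iK → IsIso j) := by
  obtain ⟨K, _, iK, _, hiKc, hKf, hK⟩ := exists_K x hx j t ht (b := b)
  haveI := hiKc
  haveI := hKf
  obtain ⟨V', j', hj'c, hV'⟩ := exists_locus' x hx j t ht (b := b)
  haveI := hj'c
  haveI : Mono j' := by
    haveI : Mono ((Over.forget _).map j') := inferInstanceAs (Mono j'.left)
    exact Functor.mono_of_mono_map (Over.forget _) this
  haveI : Mono iK := by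
    haveI : Mono ((Over.forget _).map iK) := inferInstanceAs (Mono iK.left)
    exact Functor.mono_of_mono_map (Over.forget _) this
  -- K preserves V'
  have hKV : ∀ {W : Over X} (g : W ⟶ Red.bc sX K) (v : W ⟶ V'),
      InV' x hx j t ht b (actPt b (g ≫ (Over.pullback sX).map iK) (v ≫ j')) := by
    intro W g v W' h c hc
    let g₀ := (he W K).symm g
    have hgK : InK x hx j t ht b (g₀ ≫ iK) := (hK _).1 ⟨g₀, rfl⟩
    have h1 := (hgK _ ((Over.map sX).map h) c hc).1
    have h2 := (hV' (v ≫ j')).1 ⟨v, rfl⟩ W' h _ h1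
    rw [he_mul, actPt_mul, ← he_comp, ← he_map, Equiv.apply_symm_apply] at h2
    rw [comp_actPt]
    exact h2
  obtain ⟨act, hact⟩ := (hV' _).2 (hKV (fst (Red.bc sX K) V') (snd (Red.bc sX K) V'))
  have hact' : ∀ {W : Over X} (g : W ⟶ Red.bc sX K) (v : W ⟶ V'),
      (lift g v ≫ act) ≫ j' = actPt b (g ≫ (Over.pullback sX).map iK) (v ≫ j') := fun g v => by
    rw [Category.assoc, hact, comp_actPt, lift_fst_assoc, lift_snd_assoc]
  let b' : AlgGrp.Action (Red.bc sX K) V' :=
    { act := act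
      one_act := by
        apply AlgGrp.Action.hom_ext_lift₂
        intro W u v
        rw [lift_whiskerRight_assoc, lift_leftUnitor_hom, ← cancel_mono j', hact']
        have hu : u ≫ η[Red.bc sX K] = (1 : W ⟶ Red.bc sX K) := by rw [Hom.one_def, toUnit_unique u (toUnit W)]
        rw [hu, MonObj.one_comp, actPt_one]
      mul_act := by
        apply AlgGrp.Action.hom_ext_lift₃
        intro W g g' v
        rw [lift_whiskerRight_assoc, lift_lift_associator_hom_assoc, lift_whiskerLeft_assoc, ← Hom.mul_def,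
          ← cancel_mono j', hact', hact', hact', MonObj.mul_comp, actPt_mul] }
  have hequiv : AlgGrp.Action.IsEquivariant b' (b.restrict ((Over.pullback sX).map iK)) j' := by
    show act ≫ j' = (Red.bc sX K ◁ j') ≫ ((Over.pullback sX).map iK ▷ T) ≫ b.act
    apply AlgGrp.Action.hom_ext_lift₂
    intro W g v
    rw [← Category.assoc, hact', lift_whiskerLeft_assoc, lift_whiskerRight_assoc]
    rfl
  have hps : NonAbH1.IsPseudoTorsorSch b' := by
    refine isPseudoTorsor_of_existsUnique b' fun W v v' => ?_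
    obtain ⟨g, hg, hu⟩ := existsUnique_actPt hb (v ≫ j') (v' ≫ j')
    let g₀ : (Over.map sX).obj W ⟶ G := (he W G).symm g
    have hg₀ : actPt b (he W G g₀) (v ≫ j') = v' ≫ j' := by rw [Equiv.apply_symm_apply, hg]
    have hg₁ : actPt b (he W G g₀⁻¹) (v' ≫ j') = v ≫ j' := by
      rw [← hg₀, ← actPt_mul, ← he_mul, inv_mul_cancel]
      have h1 : (he W G 1 : W ⟶ Red.bc sX G) = 1 := by
        have := he_mul (X := X) (G := G) (W := W) 1 1
        rw [_root_.one_mul] at this
        exact left_eq_mul.mp this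
      rw [h1, actPt_one]
    have hgK : InK x hx j t ht b g₀ := fun U h c hc =>
      ⟨inK_aux x hx i j t ht hb hbV hj ((hV' _).1 ⟨v, rfl⟩) ((hV' _).1 ⟨v', rfl⟩) hg₀ h hc,
       by
        rw [← GrpObj.comp_inv]
        exact inK_aux x hx i j t ht hb hbV hj ((hV' _).1 ⟨v', rfl⟩) ((hV' _).1 ⟨v, rfl⟩) hg₁ h hc⟩
    obtain ⟨z, hz⟩ := (hK g₀).2 hgK
    have hz' : (he W K z : W ⟶ Red.bc sX K) ≫ (Over.pullback sX).map iK = g := by
      rw [he_map, hz, Equiv.apply_symm_apply]
    refine ⟨he W K z, ?_, fun g' hg' => ?_⟩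
    · show lift _ v ≫ act = v'
      rw [← cancel_mono j', hact', hz', hg]
    · have h1 : g' ≫ (Over.pullback sX).map iK = g := hu _ (by
        show actPt b (g' ≫ (Over.pullback sX).map iK) (v ≫ j') = v' ≫ j'
        rw [← hact']; exact congrArg (· ≫ j') hg')
      haveI : Mono ((Over.pullback sX).map iK) := inferInstance
      rw [← cancel_mono ((Over.pullback sX).map iK), h1, hz']
  -- sections of V' over a cover
  haveI : Flat H.hom := CubeLib.flat_of_field _
  haveI : Flat (Red.bc sX H).hom := inferInstanceAs (Flat (pullback.snd H.hom sX))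
  haveI : QuasiCompact (Red.bc sX H).hom := inferInstanceAs (QuasiCompact (pullback.snd H.hom sX))
  obtain ⟨-, hVs, hVf, hVq⟩ := (S6003.result (Red.bc sX H) V bV).1 hbV
  obtain ⟨W, f, c₀, _, _, _, hc₀⟩ := exists_cover_inC x hx j t ht hb hVs V
  let v₀ : W ⟶ T := actPt b (he W G c₀⁻¹) (f ≫ j)
  have hv₀ : InV' x hx j t ht b v₀ := by
    intro W' h c hc
    have hc' := inC_comp x hx j t ht ((Over.map sX).map h) hc₀
    obtain ⟨w, hw⟩ := hc
    obtain ⟨w', hw'⟩ := hc'
    obtain ⟨eh, heh, -⟩ := existsUnique_actPt hbV.1 w' w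
    let e₀ : toX x ((Over.map sX).obj W') ⟶ Red.bc sX G := eh ≫ (Over.pullback sX).map i
    have hcc : c = (((eU x hx _).inv ≫ (he _ H).symm eh) ≫ i) * ((Over.map sX).map h ≫ c₀) := by
      have h1 : pt x hx c = e₀ * pt x hx ((Over.map sX).map h ≫ c₀) := by
        refine (existsUnique_actPt hb (tU x t ht _) (w ≫ j)).unique hw.symm ?_
        rw [actPt_mul, ← hw', ← actPt_comp hj, heh]
      rw [← cancel_epi (eU x hx ((Over.map sX).obj W')).hom, MonObj.comp_mul, Category.assoc,
        Iso.hom_inv_id_assoc]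
      refine (he _ G).injective ?_
      rw [he_mul, ← he_map ((he (toX x ((Over.map sX).obj W')) H).symm eh) i, Equiv.apply_symm_apply]
      exact h1
    have e : actPt b (he W' G c) (h ≫ v₀) =
        actPt b (he W' H ((eU x hx _).inv ≫ (he _ H).symm eh) ≫ (Over.pullback sX).map i) (h ≫ f ≫ j) := by
      show actPt b (he W' G c) (h ≫ actPt b (he W G c₀⁻¹) (f ≫ j)) = _
      rw [comp_actPt, ← actPt_mul, he_comp, ← he_mul, hcc, GrpObj.comp_inv, _root_.mul_assoc, mul_inv_cancel,
        _root_.mul_one, he_map]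
    rw [e]
    exact inV_act i j hj _ ⟨h ≫ f, Category.assoc _ _ _⟩
  obtain ⟨w₀, -⟩ := (hV' v₀).2 hv₀
  haveI : Flat W.hom := by rw [← Over.w f]; infer_instance
  haveI : Surjective W.hom := by rw [← Over.w f]; infer_instance
  haveI : QuasiCompact W.hom := by rw [← Over.w f]; infer_instance
  have htor : NonAbH1.IsTorsorFor Scheme.fpqcPrecoverage b' := by
    refine ⟨hps, Presieve.singleton W.hom, W.hom.singleton_mem_fpqcPrecoverage, ?_⟩
    rintro S' g ⟨⟩
    exact ⟨w₀.left, Over.w w₀⟩
  -- the marked point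
  obtain ⟨wt, hwt⟩ := (hV' _).2 (inV'_tU x hx j t ht (b := b) (𝟙_ (Over (Spec (CommRingCat.of k)))))
  have hwt' : wt.left ≫ j'.left = t := by
    have h1 := congrArg CommaMorphism.left hwt
    exact h1.trans (Category.id_comp t)
  refine ⟨K, inferInstance, inferInstance, iK, inferInstance, inferInstance, V', j', inferInstance, b', wt.left,
    htor, hequiv, hwt', by rw [← Over.w j', ← Category.assoc, hwt', ht], fun hiso => ?_⟩
  haveI : Flat (C x hx j t ht b).hom := CubeLib.flat_of_field _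
  haveI := surjective_C x hx j t ht hb hVs
  have hall : ∀ {U : Over (Spec (CommRingCat.of k))} (a : U ⟶ G), InC x hx j t ht b a := by
    intro U a
    let q := fst U (C x hx j t ht b)
    haveI : Flat q.left := inferInstanceAs (Flat (pullback.fst U.hom (C x hx j t ht b).hom))
    haveI : Surjective q.left := inferInstanceAs (Surjective (pullback.fst U.hom (C x hx j t ht b).hom))
    haveI : QuasiCompact q.left := inferInstanceAs (QuasiCompact (pullback.fst U.hom (C x hx j t ht b).hom))
    have hc : InC x hx j t ht b (snd U (C x hx j t ht b) ≫ iC x hx j t ht b) :=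
      (inC_iff x hx j t ht _).2 ⟨_, rfl⟩
    let g := (snd U (C x hx j t ht b) ≫ iC x hx j t ht b)⁻¹ * (q ≫ a)
    have h1 := ((hK g).1 ⟨g ≫ inv iK, by rw [Category.assoc, IsIso.inv_hom_id, Category.comp_id]⟩ _ (𝟙 _) _ hc).1
    rw [Category.id_comp, mul_inv_cancel_left] at h1
    rw [inC_iff] at h1 ⊢
    exact inV_of_cover _ q a h1
  haveI : Flat V.hom := hVf
  haveI : Surjective V.hom := hVs
  haveI : QuasiCompact V.hom := hVq
  let q := fst T V
  haveI : Flat q.left := inferInstanceAs (Flat (pullback.fst T.hom V.hom))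
  haveI : Surjective q.left := inferInstanceAs (Surjective (pullback.fst T.hom V.hom))
  haveI : QuasiCompact q.left := inferInstanceAs (QuasiCompact (pullback.fst T.hom V.hom))
  have hT : InV j (𝟙 T) := by
    refine inV_of_cover j q (𝟙 T) ?_
    rw [Category.comp_id]
    obtain ⟨g, hg, -⟩ := existsUnique_actPt hb (snd T V ≫ j) q
    let g₀ := (he (T ⊗ V) G).symm g
    obtain ⟨wA, hwA⟩ := hall g₀
    obtain ⟨wB, hwB⟩ := hall (1 : (Over.map sX).obj (T ⊗ V) ⟶ G)
    obtain ⟨eh, heh, -⟩ := existsUnique_actPt hbV.1 wB wA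
    have h1 : pt x hx g₀ = eh ≫ (Over.pullback sX).map i * pt x hx (1 : (Over.map sX).obj (T ⊗ V) ⟶ G) := by
      refine (existsUnique_actPt hb (tU x t ht _) (wA ≫ j)).unique hwA.symm ?_
      rw [actPt_mul, ← hwB, ← actPt_comp hj, heh]
    have hg2 : g₀ = ((eU x hx _).inv ≫ (he _ H).symm eh) ≫ i := by
      rw [← cancel_epi (eU x hx ((Over.map sX).obj (T ⊗ V))).hom, Category.assoc, Iso.hom_inv_id_assoc]
      refine (he _ G).injective ?_
      rw [← he_map ((he (toX x ((Over.map sX).obj (T ⊗ V))) H).symm eh) i, Equiv.apply_symm_apply]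
      refine h1.trans ?_
      have h2 : pt x hx (1 : (Over.map sX).obj (T ⊗ V) ⟶ G) = 1 := by
        have := pt_mul x hx (1 : (Over.map sX).obj (T ⊗ V) ⟶ G) 1
        rw [_root_.one_mul] at this
        exact left_eq_mul.mp this
      rw [h2, _root_.mul_one]
    rw [← hg, show g = he (T ⊗ V) G g₀ from (Equiv.apply_symm_apply _ _).symm, hg2, ← he_map]
    exact inV_act i j hj _ ⟨snd T V, rfl⟩
  obtain ⟨l, hl⟩ := hT
  haveI : Mono j := by
    haveI : Mono ((Over.forget _).map j) := inferInstanceAs (Mono j.left)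
    exact Functor.mono_of_mono_map (Over.forget _) this
  exact ⟨l, by rw [← cancel_mono j, Category.assoc, hl, Category.comp_id, Category.id_comp], hl⟩

end NoriFGS27
end Groth.Agent
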