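import Mathlib
import Groth.Prelude
import Groth.Agent.NoriFGS27.PullbackTorsor
import Groth.Agent.ClosedUniv5.Factor
import Groth.Agent.AlgGrpLib.SubGrpMono
import Groth.Agent.CubeLib.GlobalSec
import Groth.Agent.SGA3cLib.WeilRes
import Groth.Agent.S6003

/-!
# Moving a reduction of structure group of a pointed finite torsor through the marked point

For a sub-torsor `V ⊆ T` under `H ⊆ G` of a torsor pointed by `t`, the closed subgroup `K` of `G` transporting
`C = {c | c · t ∈ V}` into itself from the right and the locus `V' = {v | C · v ⊆ V}` give a pointed reduction.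
-/

set_option autoImplicit false
set_option linter.all false
set_option backward.isDefEq.respectTransparency.types false
set_option maxHeartbeats 1000000

universe u

open CategoryTheory CategoryTheory.Limits AlgebraicGeometry MonoidalCategory CartesianMonoidalCategory MonObj

namespace Groth.Agent
namespace NoriFGS27

open NonAbLib

section Generic

variable {S : Scheme.{u}} {T V W W' : Over S} (j : V ⟶ T)

/-- A point lies in a subobject. -/
def InV (v : W ⟶ T) : Prop := ∃ w : W ⟶ V, w ≫ j = v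

theorem inV_comp {v : W ⟶ T} (h : InV j v) (f : W' ⟶ W) : InV j (f ≫ v) := by
  obtain ⟨w, hw⟩ := h
  exact ⟨f ≫ w, by rw [Category.assoc, hw]⟩

theorem factors_subscheme_iff [IsClosedImmersion j.left] (v : W ⟶ T) :
    InV j v ↔ ∃ m : W.left ⟶ j.left.ker.subscheme, m ≫ j.left.ker.subschemeι = v.left := by
  constructor
  · rintro ⟨w, rfl⟩
    refine ⟨IsClosedImmersion.lift j.left.ker.subschemeι (w.left ≫ j.left) ?_, IsClosedImmersion.lift_fac _ _ _⟩
    rw [Scheme.IdealSheafData.ker_subschemeι]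
    exact Scheme.Hom.le_ker_comp _ _
  · rintro ⟨m, hm⟩
    have hle : j.left.ker ≤ v.left.ker := by
      rw [← hm]
      conv_lhs => rw [← j.left.ker.ker_subschemeι]
      exact Scheme.Hom.le_ker_comp _ _
    refine ⟨Over.homMk (IsClosedImmersion.lift j.left v.left hle) ?_,
      Over.OverMorphism.ext (IsClosedImmersion.lift_fac _ _ _)⟩
    rw [← Over.w j, ← Category.assoc, IsClosedImmersion.lift_fac, Over.w v]

theorem inV_of_cover [IsClosedImmersion j.left] (f : W' ⟶ W) [Flat f.left] [Surjective f.left] [QuasiCompact f.left]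
    (v : W ⟶ T) (h : InV j (f ≫ v)) : InV j v := by
  obtain ⟨w, hw⟩ := h
  obtain ⟨l, hl⟩ := SGA3cLib.WeilRes.exists_lift_of_fpqc j.left v.left f.left
    ⟨w.left, congrArg CommaMorphism.left hw⟩
  exact ⟨Over.homMk l (by rw [← Over.w j, ← Category.assoc, hl, Over.w v]), Over.OverMorphism.ext hl⟩

end Generic

variable {k : Type u} [Field k] {X : Scheme.{u}} [X.Over (Spec (CommRingCat.of k))]
  (x : Spec (CommRingCat.of k) ⟶ X) (hx : x ≫ (X ↘ Spec (CommRingCat.of k)) = 𝟙 _)

local notation "sX" => (X ↘ Spec (CommRingCat.of k))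
/-- Points of a base change. -/
noncomputable abbrev he (W : Over X) (G : Over (Spec (CommRingCat.of k))) :=
  (Over.mapPullbackAdj sX).homEquiv W G

theorem he_mul {G : Over (Spec (CommRingCat.of k))} [GrpObj G] {W : Over X} (g g' : (Over.map sX).obj W ⟶ G) :
    he W G (g * g') = (he W G g * he W G g' : W ⟶ Red.bc sX G) :=
  AlgGrp.Action.homEquiv_mul sX g g'

theorem he_comp {G : Over (Spec (CommRingCat.of k))} {W W' : Over X} (f : W' ⟶ W) (g : (Over.map sX).obj W ⟶ G) :
    f ≫ (he W G g : W ⟶ Red.bc sX G) = he W' G ((Over.map sX).map f ≫ g) :=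
  ((Over.mapPullbackAdj sX).homEquiv_naturality_left f g).symm

theorem he_map {G H : Over (Spec (CommRingCat.of k))} {W : Over X} (g : (Over.map sX).obj W ⟶ H) (i : H ⟶ G) :
    (he W H g : W ⟶ Red.bc sX H) ≫ (Over.pullback sX).map i = he W G (g ≫ i) :=
  ((Over.mapPullbackAdj sX).homEquiv_naturality_right g i).symm

/-- A scheme over the field as a scheme over `X` through the point. -/
noncomputable abbrev toX (U : Over (Spec (CommRingCat.of k))) : Over X := Over.mk (U.hom ≫ x)

include hx in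
theorem toX_w (U : Over (Spec (CommRingCat.of k))) : (toX x U).hom ≫ sX = U.hom := by
  show (U.hom ≫ x) ≫ sX = U.hom
  rw [Category.assoc, hx, Category.comp_id]

/-- The forgetful identification. -/
noncomputable def eU (U : Over (Spec (CommRingCat.of k))) : (Over.map sX).obj (toX x U) ≅ U :=
  Over.isoMk (Iso.refl _) ((Category.id_comp _).trans (toX_w x hx U).symm)

/-- Functoriality of `toX`. -/
noncomputable def toXmap {U U' : Over (Spec (CommRingCat.of k))} (h : U' ⟶ U) : toX x U' ⟶ toX x U :=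
  Over.homMk h.left (by show h.left ≫ U.hom ≫ x = U'.hom ≫ x; rw [← Category.assoc, Over.w h])

theorem eU_natural {U U' : Over (Spec (CommRingCat.of k))} (h : U' ⟶ U) :
    (Over.map sX).map (toXmap x h) ≫ (eU x hx U).hom = (eU x hx U').hom ≫ h :=
  Over.OverMorphism.ext ((Category.comp_id h.left).trans (Category.id_comp h.left).symm)

variable {G H : Over (Spec (CommRingCat.of k))} [GrpObj G] [GrpObj H] (i : H ⟶ G) [IsMonHom i]

/-- A point of the group over the point of `X`. -/
noncomputable def pt {U : Over (Spec (CommRingCat.of k))} (c : U ⟶ G) : toX x U ⟶ Red.bc sX G :=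
  he (toX x U) G ((eU x hx U).hom ≫ c)

theorem pt_mul {U : Over (Spec (CommRingCat.of k))} (c c' : U ⟶ G) :
    pt x hx (c * c') = pt x hx c * pt x hx c' := by
  rw [pt, MonObj.comp_mul, he_mul]; rfl

theorem toXmap_pt {U U' : Over (Spec (CommRingCat.of k))} (h : U' ⟶ U) (c : U ⟶ G) :
    toXmap x h ≫ pt x hx c = pt x hx (h ≫ c) := by
  rw [pt, he_comp, ← Category.assoc, eU_natural, Category.assoc]; rfl

variable {T V : Over X} (j : V ⟶ T) (t : Spec (CommRingCat.of k) ⟶ T.left) (ht : t ≫ T.hom = x)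

/-- The marked point over `toX U`. -/
noncomputable def tU (U : Over (Spec (CommRingCat.of k))) : toX x U ⟶ T :=
  Over.homMk (U.hom ≫ t) (by show (U.hom ≫ t) ≫ T.hom = U.hom ≫ x; rw [Category.assoc, ht])

theorem toXmap_tU {U U' : Over (Spec (CommRingCat.of k))} (h : U' ⟶ U) :
    toXmap x h ≫ tU x t ht U = tU x t ht U' := by
  apply Over.OverMorphism.ext
  show h.left ≫ U.hom ≫ t = U'.hom ≫ t
  rw [← Category.assoc, Over.w h]

/-- `c · t ∈ V`. -/
def InC (b : AlgGrp.Action (Red.bc sX G) T) {U : Over (Spec (CommRingCat.of k))} (c : U ⟶ G) : Prop :=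
  InV j (actPt b (pt x hx c) (tU x t ht U))

theorem inC_comp {b : AlgGrp.Action (Red.bc sX G) T} {U U' : Over (Spec (CommRingCat.of k))} {c : U ⟶ G} (h : U' ⟶ U) (hc : InC x hx j t ht b c) :
    InC x hx j t ht b (h ≫ c) := by
  have h2 := inV_comp j hc (toXmap x h)
  rwa [comp_actPt, toXmap_pt, toXmap_tU] at h2

theorem inV_act {b : AlgGrp.Action (Red.bc sX G) T} {bV : AlgGrp.Action (Red.bc sX H) V}
    (hj : AlgGrp.Action.IsEquivariant bV (b.restrict ((Over.pullback sX).map i)) j) {W : Over X} (eh : W ⟶ Red.bc sX H) {v : W ⟶ T} (hv : InV j v) :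
    InV j (actPt b (eh ≫ (Over.pullback sX).map i) v) := by
  obtain ⟨w, hw⟩ := hv
  exact ⟨actPt bV eh w, by rw [actPt_comp hj, hw]⟩

theorem inC_left {b : AlgGrp.Action (Red.bc sX G) T} {bV : AlgGrp.Action (Red.bc sX H) V}
    (hj : AlgGrp.Action.IsEquivariant bV (b.restrict ((Over.pullback sX).map i)) j) {U : Over (Spec (CommRingCat.of k))} (eh : U ⟶ H) {c : U ⟶ G} (hc : InC x hx j t ht b c) :
    InC x hx j t ht b ((eh ≫ i) * c) := by
  have h2 := inV_act i j hj (pt x hx eh) hc
  rw [pt, he_map, Category.assoc] at h2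
  unfold InC
  rw [pt_mul, actPt_mul]
  exact h2

theorem exists_left {b : AlgGrp.Action (Red.bc sX G) T} {bV : AlgGrp.Action (Red.bc sX H) V}
    (hb : NonAbH1.IsPseudoTorsorSch b) (hbV : NonAbH1.IsPseudoTorsorSch bV) (hj : AlgGrp.Action.IsEquivariant bV (b.restrict ((Over.pullback sX).map i)) j) {W : Over X} {a a' : (Over.map sX).obj W ⟶ G} {v : W ⟶ T}
    (h : InV j (actPt b (he W G a) v)) (h' : InV j (actPt b (he W G a') v)) :
    ∃ eh : (Over.map sX).obj W ⟶ H, a' = (eh ≫ i) * a := by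
  obtain ⟨w, hw⟩ := h
  obtain ⟨w', hw'⟩ := h'
  obtain ⟨eh, heh, -⟩ := existsUnique_actPt hbV w w'
  refine ⟨(he W H).symm eh, (he W G).injective ?_⟩
  rw [he_mul, ← he_map, Equiv.apply_symm_apply]
  refine (existsUnique_actPt hb v (w' ≫ j)).unique hw'.symm ?_
  rw [actPt_mul, ← hw, ← actPt_comp hj, heh]

section Subgroup

variable [IsFinite G.hom] [IsClosedImmersion j.left]

/-- The scheme `C`. -/
noncomputable def C (b : AlgGrp.Action (Red.bc sX G) T) : Over (Spec (CommRingCat.of k)) :=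
  Over.mk (pullback.fst (actPt b (pt x hx (𝟙 G)) (tU x t ht G)).left j.left ≫ G.hom)

/-- `C ⊆ G`. -/
noncomputable def iC (b : AlgGrp.Action (Red.bc sX G) T) : C x hx j t ht b ⟶ G :=
  Over.homMk (pullback.fst (actPt b (pt x hx (𝟙 G)) (tU x t ht G)).left j.left) rfl

instance {b : AlgGrp.Action (Red.bc sX G) T} : IsClosedImmersion (iC x hx j t ht b).left :=
  inferInstanceAs (IsClosedImmersion (pullback.fst (actPt b (pt x hx (𝟙 G)) (tU x t ht G)).left j.left))

theorem actPt_pt_eq {b : AlgGrp.Action (Red.bc sX G) T} {U : Over (Spec (CommRingCat.of k))} (c : U ⟶ G) :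
    toXmap x c ≫ actPt b (pt x hx (𝟙 G)) (tU x t ht G) = actPt b (pt x hx c) (tU x t ht U) := by
  rw [comp_actPt, toXmap_pt, toXmap_tU, Category.comp_id]

theorem inC_iff {b : AlgGrp.Action (Red.bc sX G) T} {U : Over (Spec (CommRingCat.of k))} (c : U ⟶ G) :
    InC x hx j t ht b c ↔ InV (iC x hx j t ht b) c := by
  constructor
  · rintro ⟨w, hw⟩
    refine ⟨Over.homMk (pullback.lift c.left w.left ?_) ?_, Over.OverMorphism.ext (pullback.lift_fst _ _ _)⟩
    · have h := congrArg CommaMorphism.left ((actPt_pt_eq x hx t ht (b := b) c).trans hw.symm)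
      exact h
    · show pullback.lift c.left w.left _ ≫ pullback.fst _ _ ≫ G.hom = U.hom
      rw [pullback.lift_fst_assoc, Over.w c]
  · rintro ⟨z, rfl⟩
    refine inC_comp x hx j t ht z ?_
    refine ⟨Over.homMk (pullback.snd (actPt b (pt x hx (𝟙 G)) (tU x t ht G)).left j.left) ?_, ?_⟩
    · show _ ≫ V.hom = (pullback.fst (actPt b (pt x hx (𝟙 G)) (tU x t ht G)).left j.left ≫ G.hom) ≫ x
      rw [← Over.w j, ← reassoc_of% pullback.condition, Over.w, Category.assoc]
      rfl
    · rw [← actPt_pt_eq x hx t ht (iC x hx j t ht b)]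
      exact Over.OverMorphism.ext pullback.condition.symm

theorem surjective_C {b : AlgGrp.Action (Red.bc sX G) T} (hb : NonAbH1.IsPseudoTorsorSch b) (hV : Surjective V.hom) : Surjective (C x hx j t ht b).hom := by
  obtain ⟨z, -, -⟩ := Scheme.Pullback.exists_preimage_pullback (f := V.hom) (g := x) (hV.surj (x (IsLocalRing.closedPoint k))).choose
    (IsLocalRing.closedPoint k) (hV.surj (x (IsLocalRing.closedPoint k))).choose_spec
  let U : Over (Spec (CommRingCat.of k)) := Over.mk (pullback.snd V.hom x)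
  let v : toX x U ⟶ V := Over.homMk (pullback.fst V.hom x) pullback.condition
  obtain ⟨g, hg, -⟩ := existsUnique_actPt hb (tU x t ht U) (v ≫ j)
  have hc : InC x hx j t ht b ((eU x hx U).inv ≫ (he (toX x U) G).symm g) := by
    refine ⟨v, ?_⟩
    rw [pt, Iso.hom_inv_id_assoc, Equiv.apply_symm_apply, hg]
  obtain ⟨z', -⟩ := (inC_iff x hx j t ht _).1 hc
  exact ⟨fun s => ⟨z'.left z, Subsingleton.elim _ _⟩⟩

instance {b : AlgGrp.Action (Red.bc sX G) T} : IsFinite (C x hx j t ht b).hom :=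
  inferInstanceAs (IsFinite (pullback.fst (actPt b (pt x hx (𝟙 G)) (tU x t ht G)).left j.left ≫ G.hom))

/-- Right translation by `g` and `g⁻¹` preserve `C`. -/
def InK (b : AlgGrp.Action (Red.bc sX G) T) {U : Over (Spec (CommRingCat.of k))} (g : U ⟶ G) : Prop :=
  ∀ (U' : Over (Spec (CommRingCat.of k))) (h : U' ⟶ U) (c : U' ⟶ G), InC x hx j t ht b c →
    InC x hx j t ht b (c * (h ≫ g)) ∧ InC x hx j t ht b (c * (h ≫ g)⁻¹)

theorem exists_locus {b : AlgGrp.Action (Red.bc sX G) T} (m : C x hx j t ht b ⊗ G ⟶ G) :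
    ∃ 𝓩 : G.left.IdealSheafData, ∀ {U : Over (Spec (CommRingCat.of k))} (g : U ⟶ G),
      𝓩 ≤ g.left.ker ↔ ∀ (U' : Over (Spec (CommRingCat.of k))) (h : U' ⟶ U) (z : U' ⟶ C x hx j t ht b),
        InC x hx j t ht b (lift z (h ≫ g) ≫ m) := by
  haveI : Flat (C x hx j t ht b).hom := CubeLib.flat_of_field _
  haveI : IsFinite (snd (C x hx j t ht b) G).left :=
    inferInstanceAs (IsFinite (pullback.snd (C x hx j t ht b).hom G.hom))
  haveI : Flat (snd (C x hx j t ht b) G).left :=
    inferInstanceAs (Flat (pullback.snd (C x hx j t ht b).hom G.hom))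
  haveI : LocallyOfFinitePresentation (snd (C x hx j t ht b) G).left :=
    inferInstanceAs (LocallyOfFinitePresentation (pullback.snd (C x hx j t ht b).hom G.hom))
  obtain ⟨𝓩, h𝓩⟩ := ClosedUniv5.exists_closed_into (snd (C x hx j t ht b) G).left m.left (iC x hx j t ht b).left.ker
  refine ⟨𝓩, fun {U} g => (h𝓩 U.left g.left).trans ⟨fun H U' h z => ?_, fun H T' a z hz => ?_⟩⟩
  · obtain ⟨w, hw⟩ := H U'.left h.left (lift z (h ≫ g)).left
      (by rw [← Over.comp_left, lift_snd, Over.comp_left])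
    rw [inC_iff, factors_subscheme_iff]
    exact ⟨w, by rw [hw, Over.comp_left]⟩
  · let U' : Over (Spec (CommRingCat.of k)) := Over.mk (a ≫ U.hom)
    let h : U' ⟶ U := Over.homMk a rfl
    let zz : U' ⟶ C x hx j t ht b ⊗ G := Over.homMk z (by
      rw [← Over.w (snd (C x hx j t ht b) G), ← Category.assoc, hz, Category.assoc, Over.w g]; rfl)
    have e : zz ≫ snd _ _ = h ≫ g := Over.OverMorphism.ext hz
    have h2 := H U' h (zz ≫ fst _ _)
    rw [← e, ← comp_lift, lift_fst_snd, Category.comp_id, inC_iff, factors_subscheme_iff] at h2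
    exact h2

theorem exists_K {b : AlgGrp.Action (Red.bc sX G) T} : ∃ (K : Over (Spec (CommRingCat.of k))) (_ : GrpObj K) (iK : K ⟶ G), IsMonHom iK ∧
    IsClosedImmersion iK.left ∧ IsFinite K.hom ∧
    ∀ {U : Over (Spec (CommRingCat.of k))} (g : U ⟶ G), InV iK g ↔ InK x hx j t ht b g := by
  obtain ⟨Z₁, h₁⟩ := exists_locus x hx j t ht (b := b) ((fst _ G ≫ iC x hx j t ht b) * snd _ G)
  obtain ⟨Z₂, h₂⟩ := exists_locus x hx j t ht (b := b) ((fst _ G ≫ iC x hx j t ht b) * (snd _ G)⁻¹)
  let K : Over (Spec (CommRingCat.of k)) := Over.mk ((Z₁ ⊔ Z₂).subschemeι ≫ G.hom)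
  let iK : K ⟶ G := Over.homMk (Z₁ ⊔ Z₂).subschemeι rfl
  haveI : IsClosedImmersion iK.left := inferInstanceAs (IsClosedImmersion (Z₁ ⊔ Z₂).subschemeι)
  have key : ∀ {U : Over (Spec (CommRingCat.of k))} (g : U ⟶ G), InV iK g ↔ InK x hx j t ht b g := by
    intro U g
    have hker : iK.left.ker = Z₁ ⊔ Z₂ := Scheme.IdealSheafData.ker_subschemeι _
    rw [factors_subscheme_iff, ClosedUniv5.factors_iff, hker, sup_le_iff, h₁, h₂]
    constructor
    · rintro ⟨H₁, H₂⟩ U' h c hc
      obtain ⟨z, rfl⟩ := (inC_iff x hx j t ht c).1 hc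
      have a₁ := H₁ U' h z
      have a₂ := H₂ U' h z
      rw [MonObj.comp_mul, lift_fst_assoc, lift_snd] at a₁
      rw [MonObj.comp_mul, lift_fst_assoc, GrpObj.comp_inv, lift_snd] at a₂
      exact ⟨a₁, a₂⟩
    · intro H
      refine ⟨fun U' h z => ?_, fun U' h z => ?_⟩
      · rw [MonObj.comp_mul, lift_fst_assoc, lift_snd]
        exact (H U' h _ ((inC_iff x hx j t ht _).2 ⟨z, rfl⟩)).1
      · rw [MonObj.comp_mul, lift_fst_assoc, GrpObj.comp_inv, lift_snd]
        exact (H U' h _ ((inC_iff x hx j t ht _).2 ⟨z, rfl⟩)).2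
  haveI : Mono iK := by
    haveI : Mono ((Over.forget _).map iK) := inferInstanceAs (Mono iK.left)
    exact Functor.mono_of_mono_map (Over.forget _) this
  have hmem : ∀ {U : Over (Spec (CommRingCat.of k))} (z : U ⟶ K), InK x hx j t ht b (z ≫ iK) := fun z =>
    (key _).1 ⟨z, rfl⟩
  obtain ⟨hK, hiK⟩ := AlgGrpLib.exists_grpObj_of_mono iK
    ((key _).2 fun U' h c hc => by simpa using hc)
    ((key _).2 fun U' h c hc => by
      rw [MonObj.comp_mul, ← Category.assoc, ← Category.assoc]
      refine ⟨?_, ?_⟩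
      · rw [← _root_.mul_assoc]
        have h1 := (hmem (h ≫ fst K K) U' (𝟙 _) c hc).1
        rw [Category.id_comp] at h1
        have h2 := (hmem (h ≫ snd K K) U' (𝟙 _) _ h1).1
        rwa [Category.id_comp] at h2
      · rw [mul_inv_rev, ← _root_.mul_assoc]
        have h1 := (hmem (h ≫ snd K K) U' (𝟙 _) c hc).2
        rw [Category.id_comp] at h1
        have h2 := (hmem (h ≫ fst K K) U' (𝟙 _) _ h1).2
        rwa [Category.id_comp] at h2)
    ((key _).2 fun U' h c hc => by
      rw [GrpObj.comp_inv, inv_inv]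
      exact
        ⟨by simpa using (hmem (𝟙 K) U' h c hc).2, by simpa using (hmem (𝟙 K) U' h c hc).1⟩)
  exact ⟨K, hK, iK, hiK, inferInstance, inferInstanceAs (IsFinite (_ ≫ G.hom)), key⟩

end Subgroup

end NoriFGS27
end Groth.Agent
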