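import Groth.Agent.NoriFGS27.Reduction
import Groth.Agent.SGA3xLib.SchemImage26
import Groth.Agent.S14540
import Mathlib.AlgebraicGeometry.AffineTransitionLimit

/-!
# Quotients of the fundamental group scheme carry Nori-reduced torsors; applications
-/

set_option autoImplicit false
set_option linter.all false
set_option backward.isDefEq.respectTransparency.types false
set_option maxHeartbeats 1000000

universe u

open CategoryTheory CategoryTheory.Limits AlgebraicGeometry MonoidalCategory CartesianMonoidalCategory MonObj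

namespace Groth.Agent
namespace NoriFGS27

open NonAbLib

variable {k : Type u} [Field k] {X : Scheme.{u}} [X.Over (Spec (CommRingCat.of k))]

local notation "sX" => (X ↘ Spec (CommRingCat.of k))
local notation "Kf" => Scheme.fpqcPrecoverage

theorem isAffine_of_proFinite {πN : Over (Spec (CommRingCat.of k))} [GrpObj πN] (P : NoriFGS.ProFinPres πN) :
    IsAffine πN.left := by
  letI := P.cat
  haveI := P.cofiltered
  haveI : IsConnected P.I := IsCofiltered.isConnected P.I
  haveI : ∀ i, IsAffine ((P.D ⋙ Over.forget _).obj i) := fun i => by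
    haveI h : IsFinite (P.D.obj i).hom := P.finite i
    exact (HasAffineProperty.iff_of_isAffine (P := @IsAffineHom) (f := (P.D.obj i).hom)).mp h.toIsAffineHom
  exact Scheme.isAffine_of_isLimit _ (isLimitOfPreserves (Over.forget _) P.isLimit)

theorem actPt_restrict {S : Scheme.{u}} {G G' T : Over S} [GrpObj G] [GrpObj G'] (e : G' ⟶ G) [IsMonHom e]
    (a : AlgGrp.Action G T) {W : Over S} (g : W ⟶ G') (w : W ⟶ T) :
    actPt (a.restrict e) g w = actPt a (g ≫ e) w := by
  rw [actPt, actPt, AlgGrp.Action.restrict_act, lift_whiskerRight_assoc]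

theorem isEquivariant_of_points {S : Scheme.{u}} {G G' T T' : Over S} [GrpObj G] [GrpObj G'] (e : G ⟶ G') [IsMonHom e]
    (a : AlgGrp.Action G T) (a' : AlgGrp.Action G' T') (f : T ⟶ T')
    (h : ∀ (W : Over S) (g : W ⟶ G) (w : W ⟶ T), actPt a g w ≫ f = actPt a' (g ≫ e) (w ≫ f)) :
    AlgGrp.Action.IsEquivariant a (a'.restrict e) f := by
  unfold AlgGrp.Action.IsEquivariant
  apply AlgGrp.Action.hom_ext_lift₂
  intro W g w
  rw [← Category.assoc, lift_whiskerLeft_assoc]
  show actPt a g w ≫ f = actPt (a'.restrict e) g (w ≫ f)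
  rw [h, actPt_restrict]

theorem cancel_of_ker {A B D : Over (Spec (CommRingCat.of k))} (q : A ⟶ B) (hq : q.left.ker = ⊥) [IsSeparated D.hom]
    {a b : B ⟶ D} (h : q ≫ a = q ≫ b) : a = b := by
  haveI : IsClosedImmersion (lift (𝟙 D) (𝟙 D)).left := by
    have e : (lift (𝟙 D) (𝟙 D)).left ≫ (fst D D).left = 𝟙 _ := by rw [← Over.comp_left, lift_fst]; rfl
    haveI : IsSeparated (fst D D).left := inferInstanceAs (IsSeparated (pullback.fst D.hom D.hom))
    haveI : IsClosedImmersion ((lift (𝟙 D) (𝟙 D)).left ≫ (fst D D).left) := by rw [e]; infer_instance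
    exact IsClosedImmersion.of_comp _ (fst D D).left
  obtain ⟨z, hz⟩ := SGA3xLib.SchemImage26.exists_factor q hq (lift a b) (lift (𝟙 D) (𝟙 D)) (q ≫ a) (by
    rw [comp_lift, comp_lift, Category.comp_id, h])
  have h1 := congrArg (· ≫ fst D D) hz
  have h2 := congrArg (· ≫ snd D D) hz
  simp at h1 h2
  exact h1.symm.trans h2

variable {x : Spec (CommRingCat.of k) ⟶ X} {πN : Over (Spec (CommRingCat.of k))} [GrpObj πN] {P : Over X}
  {p : Spec (CommRingCat.of k) ⟶ P.left}

/-- Pushing the universal torsor forward along a homomorphism to a finite group. -/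
theorem exists_push {a : AlgGrp.Action (Red.bc sX πN) P} (hP : NoriFGS.IsFGS x πN a p)
    {K : Over (Spec (CommRingCat.of k))} [GrpObj K] [IsFinite K.hom] (φ : πN ⟶ K) [IsMonHom φ] :
    ∃ (T : Over X) (b : AlgGrp.Action (Red.bc sX K) T) (f : P ⟶ T),
      NonAbH1.IsTorsorFor Kf b ∧ (p ≫ f.left) ≫ T.hom = x ∧ NoriFGS.IsPtTorsorHom a p b (p ≫ f.left) φ f := by
  obtain ⟨⟨pres⟩, hT, hp, -⟩ := hP
  haveI := isAffine_of_proFinite pres
  haveI : IsAffineHom πN.hom := inferInstance
  haveI : IsAffineHom (Red.bc sX πN).hom := MorphismProperty.pullback_snd (P := @IsAffineHom) πN.hom sX inferInstance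
  haveI : IsAffineHom (Red.bc sX K).hom := MorphismProperty.pullback_snd (P := @IsAffineHom) K.hom sX inferInstance
  haveI : IsMonHom ((Over.pullback sX).map φ) := inferInstance
  obtain ⟨P', f, hf⟩ := S14540.result ((Over.pullback sX).map φ : Red.bc sX πN ⟶ Red.bc sX K) ⟨P, a, hT⟩
  refine ⟨P'.X, P'.act, f, P'.isTorsor, by rw [Category.assoc, Over.w f, hp], ?_, rfl⟩
  refine isEquivariant_of_points ((Over.pullback sX).map φ) a P'.act f fun W g w => ?_
  have hf' : a.act ≫ f = lift (fst _ _ ≫ (Over.pullback sX).map φ) (snd _ _ ≫ f) ≫ P'.act.act := hf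
  rw [actPt, Category.assoc, hf', ← Category.assoc, comp_lift, lift_fst_assoc, lift_snd_assoc]
  rfl

/-- Every homomorphism to a finite group factors through a quotient carrying a Nori-reduced pointed torsor. -/
theorem exists_reduced_quotient (hx : x ≫ sX = 𝟙 _) {a : AlgGrp.Action (Red.bc sX πN) P} (hP : NoriFGS.IsFGS x πN a p)
    {G : Over (Spec (CommRingCat.of k))} [GrpObj G] [IsFinite G.hom] (ψ : πN ⟶ G) [IsMonHom ψ] :
    ∃ (K : Over (Spec (CommRingCat.of k))) (_ : GrpObj K) (_ : IsFinite K.hom) (iK : K ⟶ G) (_ : IsMonHom iK)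
      (_ : IsClosedImmersion iK.left) (φ : πN ⟶ K) (_ : IsMonHom φ) (_ : φ ≫ iK = ψ) (_ : φ.left.ker = ⊥)
      (_ : Surjective φ.left)
      (T : Over X) (b : AlgGrp.Action (Red.bc sX K) T) (f : P ⟶ T),
      NonAbH1.IsTorsorFor Kf b ∧ (p ≫ f.left) ≫ T.hom = x ∧ NoriFGS.IsPtTorsorHom a p b (p ≫ f.left) φ f ∧
      NoriFGS.IsNoriReduced Kf b := by
  haveI := isAffine_of_proFinite hP.1.some
  haveI : IsAffine G.left := isAffine_of_isAffineHom G.hom
  haveI : QuasiCompact ψ.left := inferInstance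
  obtain ⟨K, _, iK, φ, _, _, hfac, _, hker, _, hsurj⟩ := SGA3xLib.SchemImage26.exists_image ψ
  haveI : IsFinite K.hom := by rw [← Over.w iK]; infer_instance
  obtain ⟨T, b, f, hb, ht, hf⟩ := exists_push hP φ
  refine ⟨K, inferInstance, inferInstance, iK, inferInstance, inferInstance, φ, inferInstance, hfac, hker, hsurj,
    T, b, f, hb, ht, hf, ?_⟩
  intro H _ i _ _ V j _ bV hbV hj
  haveI : IsFinite H.hom := by rw [← Over.w i]; infer_instance
  obtain ⟨K', _, _, iK', _, _, V', j', _, b', t', htor, hequiv, hjt, ht', hiso⟩ :=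
    exists_pointed_reduction x hx i j (p ≫ f.left) ht hb.1 hbV hj
  obtain ⟨φ', _, f', hf', -⟩ := hP.2.2.2 K' V' b' t' htor ht'
  obtain ⟨φ₀, _, f₀, -, hu₀⟩ := hP.2.2.2 K T b (p ≫ f.left) hb ht
  have hpair : NoriFGS.IsPtTorsorHom a p b (p ≫ f.left) (φ' ≫ iK') (f' ≫ j') := by
    refine ⟨isEquivariant_of_points ((Over.pullback sX).map (φ' ≫ iK')) a b (f' ≫ j') fun W g w => ?_, ?_⟩
    · rw [← Category.assoc, actPt_comp hf'.1, actPt_comp hequiv, Functor.map_comp, Category.assoc, Category.assoc]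
    · rw [Over.comp_left, ← Category.assoc, hf'.2, hjt]
  have e : φ' ≫ iK' = φ := (hu₀ (φ' ≫ iK') (f' ≫ j') hpair).1.trans (hu₀ φ f hf).1.symm
  obtain ⟨z, hz⟩ := SGA3xLib.SchemImage26.exists_factor φ hker (𝟙 K) iK' φ' (by rw [Category.comp_id, e])
  haveI : Mono iK' := Over.mono_of_mono_left iK'
  exact hiso ⟨z, by rw [← cancel_mono iK', Category.assoc, hz, Category.comp_id, Category.id_comp], hz⟩

section Functorial

variable {Y : Scheme.{u}} [Y.Over (Spec (CommRingCat.of k))] {f : X ⟶ Y}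
  {πY : Over (Spec (CommRingCat.of k))} [GrpObj πY] {PY : Over Y} {pY : Spec (CommRingCat.of k) ⟶ PY.left}

/-- The pulled back action. -/
noncomputable def pullAct (hf : f ≫ (Y ↘ Spec (CommRingCat.of k)) = (X ↘ Spec (CommRingCat.of k))) {H : Over (Spec (CommRingCat.of k))} [GrpObj H] {U : Over Y}
    (c : AlgGrp.Action (Red.bc (Y ↘ Spec (CommRingCat.of k)) H) U) : AlgGrp.Action (Red.bc sX H) (Red.bc f U) :=
  (c.bc f).restrict (ActBC.bcCompIso f (Y ↘ Spec (CommRingCat.of k)) H hf).inv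

theorem isTorsorFor_pullAct (hf : f ≫ (Y ↘ Spec (CommRingCat.of k)) = (X ↘ Spec (CommRingCat.of k))) {H : Over (Spec (CommRingCat.of k))} [GrpObj H] {U : Over Y}
    {c : AlgGrp.Action (Red.bc (Y ↘ Spec (CommRingCat.of k)) H) U} (hc : NonAbH1.IsTorsorFor Kf c) :
    NonAbH1.IsTorsorFor Kf (pullAct hf c) := by
  obtain ⟨hps, hloc⟩ := NonAbH1.isTorsorFor_bc f Kf hc
  refine ⟨isPseudoTorsor_of_existsUnique _ fun W w w' => ?_, hloc⟩
  obtain ⟨g, hg, hu⟩ := existsUnique_actPt hps w w'
  refine ⟨g ≫ (ActBC.bcCompIso f (Y ↘ Spec (CommRingCat.of k)) H hf).hom, ?_, fun g' hg' => ?_⟩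
  · show actPt (pullAct hf c) _ w = w'
    rw [pullAct, actPt_restrict, Category.assoc, Iso.hom_inv_id, Category.comp_id, hg]
  · have h1 := hu _ (show actPt (c.bc f) (g' ≫ _) w = w' by rw [← actPt_restrict (ActBC.bcCompIso f (Y ↘ Spec (CommRingCat.of k)) H hf).inv]; exact hg')
    rw [← h1, Category.assoc, Iso.inv_hom_id, Category.comp_id]

/-- The composite of the induced homomorphism with a homomorphism of pointed torsors on `Y`. -/
theorem isPtTorsorHom_induced (hf : f ≫ (Y ↘ Spec (CommRingCat.of k)) = (X ↘ Spec (CommRingCat.of k))) {a : AlgGrp.Action (Red.bc sX πN) P}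
    {aY : AlgGrp.Action (Red.bc (Y ↘ Spec (CommRingCat.of k)) πY) PY} {φ : πN ⟶ πY} [IsMonHom φ] {g : P ⟶ Red.bc f PY}
    (hg : AlgGrp.Action.IsEquivariant (a.restrict (ActBC.bcCompIso f (Y ↘ Spec (CommRingCat.of k)) πN hf).hom)
      ((aY.bc f).restrict ((Over.pullback f).map ((Over.pullback (Y ↘ Spec (CommRingCat.of k))).map φ))) g)
    (hgp : p ≫ g.left ≫ pullback.fst PY.hom f = pY) (hp : p ≫ P.hom = x)
    {H : Over (Spec (CommRingCat.of k))} [GrpObj H] {U : Over Y}
    {c : AlgGrp.Action (Red.bc (Y ↘ Spec (CommRingCat.of k)) H) U} {u : Spec (CommRingCat.of k) ⟶ U.left}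
    {ψ : πY ⟶ H} [IsMonHom ψ] {F : PY ⟶ U} (hF : NoriFGS.IsPtTorsorHom aY pY c u ψ F)
    (w : Spec (CommRingCat.of k) ⟶ (Red.bc f U).left) (hw : w ≫ pullback.fst U.hom f = u)
    (hwx : w ≫ (Red.bc f U).hom = x) :
    NoriFGS.IsPtTorsorHom a p (pullAct hf c) w (φ ≫ ψ) (g ≫ (Over.pullback f).map F) := by
  constructor
  · refine isEquivariant_of_points ((Over.pullback sX).map (φ ≫ ψ)) a (pullAct hf c) _ fun W e v => ?_
    let c₁ := ActBC.bcCompIso f (Y ↘ Spec (CommRingCat.of k)) πN hf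
    have h1 : actPt a e v ≫ g = actPt (aY.bc f)
        ((e ≫ c₁.inv) ≫ (Over.pullback f).map ((Over.pullback (Y ↘ Spec (CommRingCat.of k))).map φ)) (v ≫ g) := by
      rw [← actPt_comp hg, actPt_restrict, Category.assoc, c₁.inv_hom_id, Category.comp_id]
    rw [← Category.assoc, h1, actPt_comp (show AlgGrp.Action.IsEquivariant (aY.bc f)
      ((c.bc f).restrict ((Over.pullback f).map ((Over.pullback (Y ↘ Spec (CommRingCat.of k))).map ψ)))
      ((Over.pullback f).map F) by rw [← AlgGrp.Action.bc_restrict]; exact AlgGrp.Action.isEquivariant_bc f hF.1),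
      pullAct, actPt_restrict, Category.assoc v g]
    congr 1
    rw [Category.assoc, Category.assoc, Category.assoc, ← Functor.map_comp, ← Functor.map_comp]
    congr 1
    rw [Iso.inv_comp_eq, ← Category.assoc, Iso.eq_comp_inv]
    exact ActBC.bcCompIso_hom_naturality f (Y ↘ Spec (CommRingCat.of k)) hf (φ ≫ ψ)
  · apply pullback.hom_ext
    · rw [hw, Over.comp_left]
      simp only [Category.assoc]
      rw [show ((Over.pullback f).map F).left ≫ pullback.fst U.hom f = pullback.fst PY.hom f ≫ F.left from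
        pullback.lift_fst _ _ _, reassoc_of% hgp]
      exact hF.2
    · show (p ≫ (g ≫ (Over.pullback f).map F).left) ≫ (Red.bc f U).hom = w ≫ (Red.bc f U).hom
      rw [Category.assoc, Over.w (g ≫ (Over.pullback f).map F), hp, hwx]

end Functorial

end NoriFGS27
end Groth.Agent
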